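import Mathlib

/-!
A group acting additively on `F³` whose point stabilizer looks like the stabilizer of a rank one
symmetric matrix in `GL₂(F)`: local analysis.
-/

set_option autoImplicit false

namespace Cfsg.Lib.Hay

open Subgroup

structure Hyp (F Γ : Type*) [Field F] [Group Γ] (p : ℕ) where
  act : Γ → (F × F × F) →+ (F × F × F)
  u : F → Γ
  τ : Fˣ → Γ
  two : (2 : F) ≠ 0
  mul : ∀ g h v, act (g * h) v = act g (act h v)
  one : ∀ v, act 1 v = v
  faith : ∀ g, (∀ v, act g v = v) → g = 1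
  act_u : ∀ s a b c, act (u s) (a, b, c) = (a + 2 * s * b + s ^ 2 * c, b + s * c, c)
  act_τ : ∀ l a b c, act (τ l) (a, b, c) = (a, l * b, l ^ 2 * c)
  stab : ∀ g a, a ≠ 0 → act g (a, 0, 0) = (a, 0, 0) → ∃ s l, g = u s * τ l
  ntr : ∃ a, a ≠ 0 ∧ ∀ g, act g (1, 0, 0) ≠ (a, 0, 0)
  mv : ∃ g a, (act g (a, 0, 0)).2 ≠ 0
  syl : ∀ g, orderOf g = p → ∃ γ s, g = γ * u s * γ⁻¹

namespace Hyp

variable {F Γ : Type*} [Field F] [Group Γ] {p : ℕ} (H : Hyp F Γ p)

theorem inv_act (g : Γ) (v : F × F × F) : H.act g⁻¹ (H.act g v) = v := by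
  rw [← H.mul, inv_mul_cancel, H.one]

theorem act_inv (g : Γ) (v : F × F × F) : H.act g (H.act g⁻¹ v) = v := by
  rw [← H.mul, mul_inv_cancel, H.one]

theorem inj (g : Γ) {v w : F × F × F} (h : H.act g v = H.act g w) : v = w := by
  rw [← H.inv_act g v, h, H.inv_act]

theorem ext' {g h : Γ} (e : ∀ a b c, H.act g (a, b, c) = H.act h (a, b, c)) : g = h := by
  have := H.faith (h⁻¹ * g) fun ⟨a, b, c⟩ => by rw [H.mul, e, H.inv_act]
  rw [inv_mul_eq_one] at this
  exact this.symm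

theorem u_add (s s' : F) : H.u (s + s') = H.u s * H.u s' :=
  H.ext' fun a b c => by
    simp only [H.mul, H.act_u, Prod.mk.injEq, and_true]; constructor <;> ring

theorem u_zero : H.u 0 = 1 := H.ext' fun a b c => by simp [H.act_u, H.one]

theorem u_neg (s : F) : H.u (-s) = (H.u s)⁻¹ := by
  rw [eq_inv_iff_mul_eq_one, ← H.u_add, neg_add_cancel, H.u_zero]

theorem τ_mul (l m : Fˣ) : H.τ (l * m) = H.τ l * H.τ m :=
  H.ext' fun a b c => by
    simp only [H.mul, H.act_τ, Prod.mk.injEq, true_and, Units.val_mul]; constructor <;> ring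

theorem τ_one : H.τ 1 = 1 := H.ext' fun a b c => by simp [H.act_τ, H.one]

/-- the involution -/
def t : Γ := H.τ (-1)

theorem act_t (a b c : F) : H.act H.t (a, b, c) = (a, -b, c) := by
  simp [t, H.act_τ]

theorem t_mul_t : H.t * H.t = 1 := H.ext' fun a b c => by simp [H.mul, H.act_t, H.one]

theorem t_inv : H.t⁻¹ = H.t := inv_eq_of_mul_eq_one_right H.t_mul_t

include H in
theorem eq_zero_of_neg {b : F} (h : -b = b) : b = 0 := by
  have : (2 : F) * b = 0 := by linear_combination -h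
  exact (mul_eq_zero.1 this).resolve_left H.two

theorem t_ne_one : H.t ≠ 1 := fun h => by
  have := H.act_t 0 1 0
  rw [h, H.one] at this
  simp only [Prod.mk.injEq, true_and, and_true] at this
  exact one_ne_zero (H.eq_zero_of_neg this.symm)

theorem t_u (s : F) : H.t * H.u s = H.u (-s) * H.t :=
  H.ext' fun a b c => by
    simp only [H.mul, H.act_u, H.act_t, Prod.mk.injEq, and_true]; constructor <;> ring

theorem τ_t (l : Fˣ) : H.τ l * H.t = H.t * H.τ l := by
  rw [t, ← H.τ_mul, ← H.τ_mul, mul_comm]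

theorem fix {g : Γ} {a : F} (ha : a ≠ 0) (h : H.act g (a, 0, 0) = (a, 0, 0)) (y : F) :
    H.act g (y, 0, 0) = (y, 0, 0) := by
  obtain ⟨s, l, rfl⟩ := H.stab g a ha h
  simp [H.mul, H.act_u, H.act_τ]

theorem fix_u {s : F} (hs : s ≠ 0) {v : F × F × F} (h : H.act (H.u s) v = v) : v.2 = 0 := by
  obtain ⟨a, b, c⟩ := v
  rw [H.act_u] at h
  simp only [Prod.mk.injEq, and_true] at h
  obtain ⟨h1, h2⟩ := h
  have hc : c = 0 := by
    have : s * c = 0 := by linear_combination h2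
    exact (mul_eq_zero.1 this).resolve_left hs
  have hb : b = 0 := by
    have : 2 * s * b = 0 := by rw [hc] at h1; linear_combination h1
    exact (mul_eq_zero.1 this).resolve_left (mul_ne_zero H.two hs)
  simp [hb, hc]

theorem eta {v : F × F × F} (h : v.2 = 0) : v = (v.1, 0, 0) := Prod.ext rfl h

theorem ti {g : Γ} {a : F} (ha : a ≠ 0) (h : (H.act g (a, 0, 0)).2 = 0) (y : F) :
    (H.act g (y, 0, 0)).2 = 0 := by
  have h1 : H.act (g⁻¹ * H.u 1 * g) (a, 0, 0) = (a, 0, 0) := by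
    rw [H.mul, H.mul, eta h, H.act_u]
    simp only [mul_zero, add_zero]
    rw [← eta h, H.inv_act]
  have h2 := H.fix ha h1 y
  rw [H.mul, H.mul] at h2
  have h3 := congrArg (H.act g) h2
  rw [H.act_inv] at h3
  exact H.fix_u one_ne_zero h3

theorem ne_zero {g : Γ} {a : F} (ha : a ≠ 0) : H.act g (a, 0, 0) ≠ 0 := fun h => by
  rw [← (H.act g).map_zero] at h
  exact ha (congrArg Prod.fst (H.inj g h))

/-- The normalizer of the first coordinate axis. -/
def N : Subgroup Γ where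
  carrier := {g | ∀ y, (H.act g (y, 0, 0)).2 = 0}
  one_mem' := fun y => by simp [H.one]
  mul_mem' := fun {g h} hg hh y => by rw [H.mul, eta (hh y)]; exact hg _
  inv_mem' := fun {g} hg => by
    have h1 : (H.act g (1, 0, 0)).1 ≠ 0 := fun h =>
      H.ne_zero (g := g) one_ne_zero (Prod.ext h (hg 1))
    refine H.ti h1 ?_
    rw [← eta (hg 1), H.inv_act]; rfl

theorem mem_N {g : Γ} : g ∈ H.N ↔ ∀ y, (H.act g (y, 0, 0)).2 = 0 := Iff.rfl

theorem mem_N_of {g : Γ} {a : F} (ha : a ≠ 0) (h : (H.act g (a, 0, 0)).2 = 0) : g ∈ H.N :=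
  H.ti ha h

theorem u_mem (s : F) : H.u s ∈ H.N := fun y => by simp [H.act_u]

theorem τ_mem (l : Fˣ) : H.τ l ∈ H.N := fun y => by simp [H.act_τ]

theorem t_mem : H.t ∈ H.N := H.τ_mem _

theorem e_add (a b : F) : ((a + b, 0, 0) : F × F × F) = (a, 0, 0) + (b, 0, 0) := by simp

theorem e_sub (a b : F) : ((a - b, 0, 0) : F × F × F) = (a, 0, 0) - (b, 0, 0) := by simp

theorem e_neg (a : F) : ((-a, 0, 0) : F × F × F) = -(a, 0, 0) := by simp

theorem l3' {g : Γ} {a b : F} (ha : a ≠ 0) (h : H.act g (a, 0, 0) = (0, b, 0)) : False := by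
  set δ := g⁻¹ * H.t * g with hδ
  have d1 : H.act δ (a, 0, 0) = (-a, 0, 0) := by
    rw [hδ, H.mul, H.mul, h, H.act_t, e_neg, ← H.inv_act g (-(a, 0, 0)), map_neg, h]; simp
  have dN : δ ∈ H.N := H.mem_N_of ha (by rw [d1]; rfl)
  have dd : δ * δ = 1 := by
    rw [hδ]; calc g⁻¹ * H.t * g * (g⁻¹ * H.t * g) = g⁻¹ * (H.t * H.t) * g := by group
      _ = 1 := by rw [H.t_mul_t]; group
  have d2 : ∀ y, H.act δ (y, 0, 0) = (-y, 0, 0) := by
    intro y
    set y' := (H.act δ (y, 0, 0)).1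
    have e1 : H.act δ (y, 0, 0) = (y', 0, 0) := eta (dN y)
    have e2 : H.act δ (y', 0, 0) = (y, 0, 0) := by rw [← e1, ← H.mul, dd, H.one]
    by_cases h0 : y + y' = 0
    · rw [e1, eq_neg_of_add_eq_zero_right h0]
    · have e3 : H.act δ (y + y', 0, 0) = (y + y', 0, 0) := by
        rw [e_add, map_add, e1, e2, add_comm]
      have := H.fix h0 e3 a
      rw [d1] at this
      exact absurd (H.eq_zero_of_neg (congrArg Prod.fst this)) ha
  have d3 : ∀ y, y ≠ 0 → ∃ b : F, b ≠ 0 ∧ H.act g (y, 0, 0) = (0, b, 0) := by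
    intro y hy
    have e1 := congrArg (H.act g) (d2 y)
    rw [hδ, H.mul, H.mul, H.act_inv, e_neg, map_neg] at e1
    have e0 := H.ne_zero (g := g) hy
    generalize H.act g (y, 0, 0) = v at e1 e0
    obtain ⟨x, b, c⟩ := v
    rw [H.act_t] at e1
    simp only [Prod.neg_mk, Prod.mk.injEq] at e1
    have hx := H.eq_zero_of_neg e1.1.symm
    have hc := H.eq_zero_of_neg e1.2.2.symm
    subst hx hc
    exact ⟨b, fun hb => e0 (by simp [hb]), rfl⟩
  obtain ⟨a0, h0, hn⟩ := H.ntr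
  obtain ⟨b1, hb1, e1⟩ := d3 1 one_ne_zero
  obtain ⟨b0, hb0, e0⟩ := d3 a0 h0
  apply hn (g⁻¹ * H.τ (Units.mk0 (b0 / b1) (div_ne_zero hb0 hb1)) * g)
  rw [H.mul, H.mul, e1, H.act_τ, ← H.inv_act g (a0, 0, 0), e0]
  simp [hb1]

theorem l3 {g : Γ} {a x b : F} (h : H.act g (a, 0, 0) = (x, b, 0)) : b = 0 := by
  by_contra hb
  have ha : a ≠ 0 := by
    rintro rfl
    have : ((0, 0, 0) : F × F × F) = 0 := rfl
    rw [this, map_zero] at h
    exact hb (congrArg (fun v => v.2.1) h).symm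
  have h2 := H.two
  refine H.l3' (g := H.u (-x / (2 * b)) * g) (b := b) ha ?_
  rw [H.mul, h, H.act_u]
  simp only [mul_zero, add_zero, Prod.mk.injEq, and_true]
  field_simp; ring

theorem l4 {g : Γ} (hg : g ∉ H.N) {a : F} (ha : a ≠ 0) : (H.act g (a, 0, 0)).2.2 ≠ 0 := by
  intro h
  refine hg (H.mem_N_of ha (Prod.ext ?_ h))
  exact H.l3 (x := (H.act g (a, 0, 0)).1) (Prod.ext rfl (Prod.ext rfl h))

/-- An element of `N` moving the conjugate line into itself, changing only the first two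
coordinates, fixes the middle one. -/
theorem mid {g k : Γ} (hk : g⁻¹ * k * g ∈ H.N) (y : F)
    (h : (H.act k (H.act g (y, 0, 0))).2.2 = (H.act g (y, 0, 0)).2.2) :
    (H.act k (H.act g (y, 0, 0))).2.1 = (H.act g (y, 0, 0)).2.1 := by
  have e1 := congrArg (H.act g) (eta (hk y))
  rw [H.mul, H.mul, H.act_inv] at e1
  set y' := (H.act g⁻¹ (H.act k (H.act g (y, 0, 0)))).1
  have e2 : H.act g (y' - y, 0, 0) = H.act k (H.act g (y, 0, 0)) - H.act g (y, 0, 0) := by
    rw [e_sub, map_sub, ← e1]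
  have := H.l3 (g := g) (a := y' - y) (x := (H.act g (y' - y, 0, 0)).1)
    (b := (H.act g (y' - y, 0, 0)).2.1) (Prod.ext rfl (Prod.ext rfl (by rw [e2]; simp [h])))
  rw [e2] at this
  simpa [sub_eq_zero] using this

theorem tfix {g : Γ} (hk : g⁻¹ * H.t * g ∈ H.N) (y : F) : (H.act g (y, 0, 0)).2.1 = 0 := by
  have := H.mid hk y
  generalize H.act g (y, 0, 0) = v at this
  obtain ⟨a, b, c⟩ := v
  rw [H.act_t] at this
  exact H.eq_zero_of_neg (this rfl)

theorem tfix' {g : Γ} {a : F} (h : (H.act g (a, 0, 0)).2.1 = 0) :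
    H.act (g⁻¹ * H.t * g) (a, 0, 0) = (a, 0, 0) := by
  rw [H.mul, H.mul]
  have : H.act H.t (H.act g (a, 0, 0)) = H.act g (a, 0, 0) := by
    generalize H.act g (a, 0, 0) = v at h
    obtain ⟨a, b, c⟩ := v
    simp only at h
    rw [H.act_t, h, neg_zero]
  rw [this, H.inv_act]

theorem ufree {g : Γ} (hg : g ∉ H.N) {s : F} (hk : g⁻¹ * H.u s * g ∈ H.N) : s = 0 := by
  have h1 := H.mid hk 1
  have h2 := H.l4 hg one_ne_zero
  generalize H.act g (1, 0, 0) = v at h1 h2
  obtain ⟨a, b, c⟩ := v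
  rw [H.act_u] at h1
  have : s * c = 0 := by simpa using h1 rfl
  exact (mul_eq_zero.1 this).resolve_right h2

theorem invol {d : Γ} (h1 : H.act d (1, 0, 0) = (1, 0, 0)) (h2 : d * d = 1) (h3 : d ≠ 1) :
    ∃ s, d = H.u s * H.t * (H.u s)⁻¹ := by
  obtain ⟨s, l, rfl⟩ := H.stab d 1 one_ne_zero h1
  have e1 := H.one (0, 1, 0)
  rw [← h2] at e1
  simp only [H.mul, H.act_u, H.act_τ, Prod.mk.injEq] at e1
  have hl : (l : F) = 1 ∨ (l : F) = -1 := by
    have : (l : F) * l = 1 := by linear_combination e1.2.1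
    exact mul_self_eq_one_iff.1 this
  rcases hl with hl | hl
  · exfalso
    have hs : s = 0 := by
      rw [hl] at e1
      have : 2 * 2 * s = 0 := by linear_combination e1.1
      exact (mul_eq_zero.1 this).resolve_left (mul_ne_zero H.two H.two)
    apply h3
    rw [hs, show l = 1 from Units.ext hl, H.u_zero, H.τ_one, one_mul]
  · refine ⟨s / 2, ?_⟩
    rw [show l = -1 from Units.ext (by simpa using hl), ← H.u_neg, mul_assoc, H.t_u, neg_neg,
      ← mul_assoc, ← H.u_add, show s / 2 + s / 2 = s by have := H.two; field_simp; ring]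
    rfl

end Hyp

end Cfsg.Lib.Hay
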