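import Cfsg.Agent.Lib.Hay.Abs

/-!
Counting: the involution fixes exactly two conjugates of the axis.
-/

set_option autoImplicit false

namespace Cfsg.Lib.Hay

open Subgroup

theorem card_dvd_of_free {K Γ Ω : Type*} [Group K] [Group Γ] [MulAction Γ Ω] (φ : K →* Γ)
    (X : Set Ω) (hX : ∀ k, ∀ x ∈ X, φ k • x ∈ X) (hf : ∀ k, ∀ x ∈ X, φ k • x = x → k = 1) :
    Nat.card K ∣ X.ncard := by
  letI : MulAction K X :=
    { smul := fun k x => ⟨φ k • x.1, hX k _ x.2⟩
      one_smul := fun x => Subtype.ext (by change φ 1 • x.1 = x.1; rw [map_one, one_smul])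
      mul_smul := fun a b x => Subtype.ext (by
        change φ (a * b) • x.1 = φ a • φ b • x.1
        rw [map_mul, mul_smul]) }
  have := Nat.card_congr (MulAction.selfEquivOrbitsQuotientProd (G := K) (X := X) fun b =>
    (Subgroup.eq_bot_iff_forall _).2 fun k hk => hf k _ b.2 (congrArg Subtype.val hk))
  rw [← Nat.card_coe_set_eq, this, Nat.card_prod]
  exact Dvd.intro_left _ rfl

theorem arith {j r x y : ℕ} (hr : Odd r) (hj : 1 ≤ j) (hd : j + 1 ∣ (2 * r + 1) * ((2 * r + 1) * j + 1))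
    (hc : (j + 1).Coprime (2 * r + 1)) (hx : r ∣ x) (hy : y ≤ 1) (e : j = x + y) : j = 1 := by
  have h1 := hc.dvd_of_dvd_mul_left hd
  have h2 : j + 1 ∣ 2 * r := by
    have : (2 * r + 1) * (j + 1) = ((2 * r + 1) * j + 1) + 2 * r := by ring
    exact (Nat.dvd_add_right h1).1 (this ▸ Dvd.intro_left _ rfl)
  have hr0 := hr.pos
  have h3 := Nat.le_of_dvd (by omega) h2
  obtain ⟨m, rfl⟩ := hx
  obtain ⟨c, hc'⟩ := h2
  obtain ⟨r', hr'⟩ := hr
  have hm : m ≤ 1 := by
    by_contra hm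
    have : r * 2 ≤ r * m := Nat.mul_le_mul_left _ (by omega)
    omega
  interval_cases m
  · omega
  · have hc2 : c ≤ 1 := by
      by_contra hc2
      have : (j + 1) * 2 ≤ (j + 1) * c := Nat.mul_le_mul_left _ (by omega)
      omega
    interval_cases c <;> omega

namespace Hyp

variable {F Γ : Type*} [Field F] [Group Γ] {p : ℕ} (H : Hyp F Γ p)

theorem smul_mk_eq {k g : Γ} : k • (g : Γ ⧸ H.N) = g ↔ g⁻¹ * k * g ∈ H.N := by
  rw [MulAction.Quotient.smul_coe, eq_comm, QuotientGroup.eq, smul_eq_mul, mul_assoc]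

theorem mk_eq_one {g : Γ} : (g : Γ ⧸ H.N) = (1 : Γ) ↔ g ∈ H.N := by
  rw [eq_comm, QuotientGroup.eq, inv_one, one_mul]

theorem inj3 {g : Γ} (hg : g ∉ H.N) {y y' : F}
    (h : (H.act g (y, 0, 0)).2.2 = (H.act g (y', 0, 0)).2.2) : y = y' := by
  by_contra hne
  apply H.l4 hg (sub_ne_zero.2 hne)
  rw [e_sub, map_sub]; simp [h]

theorem surj3 [Finite F] {g : Γ} (hg : g ∉ H.N) (c : F) : ∃ y, (H.act g (y, 0, 0)).2.2 = c :=
  (Finite.injective_iff_surjective (f := fun y => (H.act g (y, 0, 0)).2.2)).1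
    (fun _ _ h => H.inj3 hg h) c

theorem conj_t {g : Γ} (h : g⁻¹ * H.t * g ∈ H.N) : ∃ s, g * H.u s * H.t = H.t * (g * H.u s) := by
  obtain ⟨s, hs⟩ := H.invol (H.tfix' (H.tfix h 1))
    (by calc g⁻¹ * H.t * g * (g⁻¹ * H.t * g) = g⁻¹ * (H.t * H.t) * g := by group
      _ = 1 := by rw [H.t_mul_t]; group)
    (fun h1 => H.t_ne_one (by
      calc H.t = g * (g⁻¹ * H.t * g) * g⁻¹ := by group
        _ = 1 := by rw [h1]; group))
  refine ⟨s, ?_⟩
  calc g * H.u s * H.t = g * (H.u s * H.t * (H.u s)⁻¹) * H.u s := by group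
    _ = _ := by rw [← hs]; group

theorem not_order {h : Γ} (hp : 1 < p) (ht : h * H.t = H.t * h) : orderOf h ≠ p := by
  intro ho
  obtain ⟨g, s, rfl⟩ := H.syl h ho
  have hs : s ≠ 0 := by
    rintro rfl
    rw [H.u_zero, mul_one, mul_inv_cancel, orderOf_one] at ho
    omega
  set δ := g⁻¹ * H.t * g with hδ
  have hc : H.u s * δ = δ * H.u s := by
    calc H.u s * δ = g⁻¹ * (g * H.u s * g⁻¹ * H.t) * g := by rw [hδ]; group
      _ = _ := by rw [ht, hδ]; group
  have dN : δ ∈ H.N := fun y => H.fix_u hs (by rw [← H.mul, hc, H.mul, H.act_u]; simp)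
  obtain ⟨s', hs'⟩ := H.conj_t dN
  have e1 : δ = H.u s' * H.t * (H.u s')⁻¹ := by
    calc δ = g⁻¹ * (H.t * (g * H.u s')) * (H.u s')⁻¹ := by rw [hδ]; group
      _ = _ := by rw [← hs']; group
  have e2 := congrArg (fun k => (H.act k (0, 1, 0)).1) hc
  simp only [e1, ← H.u_neg, H.mul, H.act_u, H.act_t] at e2
  have : 2 * 2 * s = 0 := by linear_combination -e2
  exact hs ((mul_eq_zero.1 this).resolve_left (mul_ne_zero H.two H.two))

/-- the fixed points of `t` other than the base point -/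
def L : Set (Γ ⧸ H.N) := {ω | ω ≠ (1 : Γ) ∧ H.t • ω = ω}

theorem exists_L {g : Γ} (hg : g ∉ H.N) :
    ∃ s, (H.u s * g)⁻¹ * H.t * (H.u s * g) ∈ H.N := by
  have h2 := H.l4 hg one_ne_zero
  refine ⟨-(H.act g (1, 0, 0)).2.1 / (H.act g (1, 0, 0)).2.2,
    H.mem_N_of one_ne_zero (by rw [H.tfix']; · rfl
                               rw [H.mul]
                               generalize H.act g (1, 0, 0) = v at h2
                               obtain ⟨a, b, c⟩ := v
                               rw [H.act_u]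
                               simp only at h2 ⊢
                               field_simp; ring)⟩

theorem card_quot [Finite F] [Finite Γ] : H.N.index = Nat.card F * H.L.ncard + 1 := by
  let f : Option (F × H.L) → Γ ⧸ H.N := fun o => o.elim (1 : Γ) fun x => H.u x.1 • x.2.1
  have hne : ∀ s (ω : H.L), H.u s • ω.1 ≠ (1 : Γ) := by
    intro s ω h
    apply ω.2.1
    rw [← inv_smul_smul (H.u s) ω.1, h, H.smul_mk_eq]
    simpa using H.u_mem s
  have hb : Function.Bijective f := by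
    constructor
    · rintro (_ | ⟨s, ω⟩) (_ | ⟨s', ω'⟩) h
      · rfl
      · exact absurd h.symm (hne _ _)
      · exact absurd h (hne _ _)
      · change H.u s • ω.1 = H.u s' • ω'.1 at h
        have e1 : ω'.1 = H.u (s - s') • ω.1 := by
          rw [sub_eq_neg_add, H.u_add, mul_smul, h, H.u_neg, inv_smul_smul]
        have e2 : H.u (2 * (s - s')) • ω.1 = ω.1 := by
          have := ω'.2.2
          rw [e1, ← mul_smul, H.t_u, mul_smul, ω.2.2, H.u_neg, inv_smul_eq_iff, ← mul_smul,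
            ← H.u_add, ← two_mul] at this
          exact this.symm
        obtain ⟨ω, h1, h2⟩ := ω
        obtain ⟨g, rfl⟩ := QuotientGroup.mk_surjective ω
        have := H.ufree (mt H.mk_eq_one.2 h1) (H.smul_mk_eq.1 e2)
        have hs : s = s' := sub_eq_zero.1 ((mul_eq_zero.1 this).resolve_left H.two)
        subst hs
        rw [sub_self, H.u_zero, one_smul] at e1
        rw [show ω' = ⟨_, h1, h2⟩ from Subtype.ext e1]
    · intro ω
      obtain ⟨g, rfl⟩ := QuotientGroup.mk_surjective ω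
      by_cases hg : g ∈ H.N
      · exact ⟨none, (H.mk_eq_one.2 hg).symm⟩
      · obtain ⟨s, hs⟩ := H.exists_L hg
        refine ⟨some (-s, ⟨(H.u s * g : Γ), fun h => hg ?_, H.smul_mk_eq.2 hs⟩), ?_⟩
        · exact (H.N.mul_mem_cancel_left (H.u_mem s)).1 (H.mk_eq_one.1 h)
        · change H.u (-s) • ((H.u s * g : Γ) : Γ ⧸ H.N) = _
          rw [MulAction.Quotient.smul_coe, H.u_neg, smul_eq_mul, inv_mul_cancel_left]
  rw [index_eq_card, ← Nat.card_eq_of_bijective f hb, Finite.card_option, Nat.card_prod,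
    Nat.card_coe_set_eq]

theorem relIndex_cent [Finite Γ] : H.N.relIndex (centralizer {H.t}) = H.L.ncard + 1 := by
  have e1 : H.N.subgroupOf (centralizer {H.t}) =
      MulAction.stabilizer (centralizer ({H.t} : Set Γ)) ((1 : Γ) : Γ ⧸ H.N) := by
    ext k
    rw [MulAction.mem_stabilizer_iff, mem_subgroupOf]
    change _ ↔ (k : Γ) • ((1 : Γ) : Γ ⧸ H.N) = _
    rw [H.smul_mk_eq]
    simp
  have e2 : MulAction.orbit (centralizer ({H.t} : Set Γ)) ((1 : Γ) : Γ ⧸ H.N) =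
      insert ((1 : Γ) : Γ ⧸ H.N) H.L := by
    ext ω
    constructor
    · rintro ⟨⟨k, hk⟩, rfl⟩
      rw [mem_centralizer_singleton_iff] at hk
      by_cases h : k • ((1 : Γ) : Γ ⧸ H.N) = (1 : Γ)
      · exact Or.inl h
      · refine Or.inr ⟨h, ?_⟩
        change H.t • k • ((1 : Γ) : Γ ⧸ H.N) = k • ((1 : Γ) : Γ ⧸ H.N)
        rw [← mul_smul, ← hk, mul_smul, H.smul_mk_eq.2 (by simpa using H.t_mem)]
    · rintro (rfl | ⟨h1, h2⟩)
      · exact MulAction.mem_orbit_self _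
      · obtain ⟨g, rfl⟩ := QuotientGroup.mk_surjective ω
        obtain ⟨s, hs⟩ := H.conj_t (H.smul_mk_eq.1 h2)
        refine ⟨⟨g * H.u s, mem_centralizer_singleton_iff.2 hs⟩, ?_⟩
        change (g * H.u s) • ((1 : Γ) : Γ ⧸ H.N) = _
        rw [MulAction.Quotient.smul_coe, smul_eq_mul, mul_one, eq_comm, QuotientGroup.eq]
        simpa using H.u_mem s
  rw [relIndex, e1, MulAction.index_stabilizer, e2,
    Set.ncard_insert_of_notMem (fun h => h.1 rfl)]

theorem relIndex_N : (centralizer {H.t}).relIndex H.N = Nat.card F := by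
  let f : F → H.N ⧸ (centralizer {H.t}).subgroupOf H.N := fun s => ((⟨H.u s, H.u_mem s⟩ : H.N) : _ ⧸ _)
  refine (Nat.card_eq_of_bijective f ⟨fun s s' h => ?_, fun ω => ?_⟩).symm
  · have := QuotientGroup.eq.1 h
    rw [mem_subgroupOf, mem_centralizer_singleton_iff] at this
    change (H.u s)⁻¹ * H.u s' * H.t = H.t * ((H.u s)⁻¹ * H.u s') at this
    have e2 := congrArg (fun k => (H.act k (0, 1, 0)).1) this
    simp only [← H.u_neg, H.mul, H.act_u, H.act_t] at e2
    have : 2 * 2 * (s - s') = 0 := by linear_combination e2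
    exact sub_eq_zero.1 ((mul_eq_zero.1 this).resolve_left (mul_ne_zero H.two H.two))
  · obtain ⟨⟨g, hg⟩, rfl⟩ := QuotientGroup.mk_surjective ω
    obtain ⟨s, hs⟩ := H.conj_t (g := g⁻¹) (H.N.mul_mem (H.N.mul_mem (by simpa using hg) H.t_mem)
      (H.N.inv_mem hg))
    refine ⟨s, (QuotientGroup.eq.2 ?_).symm⟩
    rw [mem_subgroupOf, mem_centralizer_singleton_iff]
    exact hs

theorem card_L [Fintype F] [Finite Γ] [hp : Fact p.Prime] {n : ℕ} (hF : Fintype.card F = p ^ n)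
    (h4 : Fintype.card F % 4 = 3) : H.L.ncard = 1 := by
  classical
  let P : Γ ⧸ H.N → Prop := fun ω => ∃ g : Γ, ω = g ∧ ∀ y, (H.act g (y, 0, 0)).1 = 0
  let X := {ω ∈ H.L | ¬ P ω}
  let Y := {ω ∈ H.L | P ω}
  let S := (powMonoidHom 2 : Fˣ →* Fˣ).range
  let φ : S →* Γ := (MonoidHom.mk' H.τ H.τ_mul).comp S.subtype
  have hφ : ∀ k : S, φ k = H.τ k := fun _ => rfl
  obtain ⟨r, hr⟩ : ∃ r, Fintype.card F = 2 * r + 1 := ⟨Fintype.card F / 2, by omega⟩
  have hS : Nat.card S = r := by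
    rw [IsCyclic.card_powMonoidHom_range, Nat.card_eq_fintype_card, Fintype.card_units, hr]
    simp
  have hX : r ∣ X.ncard := by
    rw [← hS]
    refine card_dvd_of_free φ X ?_ ?_
    · rintro k ω ⟨⟨h1, h2⟩, h3⟩
      refine ⟨⟨fun h => h1 ?_, ?_⟩, ?_⟩
      · rw [← inv_smul_smul (φ k) ω, h, H.smul_mk_eq]
        simpa [hφ] using H.τ_mem k
      · rw [← mul_smul, hφ, ← H.τ_t, mul_smul, h2]
      · rintro ⟨g, e, hg⟩
        refine h3 ⟨φ k⁻¹ * g, ?_, fun y => ?_⟩
        · rw [← inv_smul_smul (φ k) ω, e, map_inv]; rfl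
        · have := hg y
          rw [H.mul, hφ]
          generalize H.act g (y, 0, 0) = v at this
          obtain ⟨a, b, c⟩ := v
          rw [H.act_τ]; exact this
    · rintro ⟨l, m, rfl⟩ ω ⟨⟨h1, h2⟩, h3⟩ h
      by_contra hne
      obtain ⟨g, rfl⟩ := QuotientGroup.mk_surjective ω
      have hg := mt H.mk_eq_one.2 h1
      set l := (powMonoidHom 2 : Fˣ →* Fˣ) m with hl
      have hl2 : (l : F) ^ 2 - 1 ≠ 0 := by
        intro h0
        have : (l : F) * l = 1 := by linear_combination h0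
        rcases mul_self_eq_one_iff.1 this with h | h
        · exact hne (Subtype.ext (Units.ext h))
        · refine (FiniteField.isSquare_neg_one_iff (F := F)).1 ⟨m, ?_⟩ h4
          rw [← h, hl]; simp [sq]
      refine h3 ⟨g, rfl, fun y => ?_⟩
      obtain ⟨y0, e0⟩ := H.surj3 hg ((H.act g (y, 0, 0)).2.2 / ((l : F) ^ 2 - 1))
      have e1 := congrArg (H.act g) (eta (H.smul_mk_eq.1 h y0))
      rw [H.mul, H.mul, H.act_inv, hφ] at e1
      set y1 := (H.act g⁻¹ (H.act (H.τ l) (H.act g (y0, 0, 0)))).1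
      have e2 : H.act g (y1 - y0, 0, 0) = H.act (H.τ l) (H.act g (y0, 0, 0)) - H.act g (y0, 0, 0) := by
        rw [e_sub, map_sub, ← e1]
      generalize H.act g (y0, 0, 0) = v at e0 e2
      obtain ⟨a, b, c⟩ := v
      rw [H.act_τ] at e2
      have : y1 - y0 = y := H.inj3 hg (by
        rw [e2]; simp only at e0; simp only [Prod.mk_sub_mk]; rw [e0]; field_simp)
      rw [← this, e2]; simp
  have hY : Y.ncard ≤ 1 := by
    rw [Set.ncard_le_one_iff]
    rintro ω ω' ⟨⟨h1, h2⟩, g, rfl, hg⟩ ⟨⟨h1', h2'⟩, g', rfl, hg'⟩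
    have k1 := mt H.mk_eq_one.2 h1
    obtain ⟨y, e⟩ := H.surj3 (mt H.mk_eq_one.2 h1') (H.act g (1, 0, 0)).2.2
    have e1 : H.act g' (y, 0, 0) = H.act g (1, 0, 0) :=
      Prod.ext ((hg' y).trans (hg 1).symm) (Prod.ext
        ((H.tfix (H.smul_mk_eq.1 h2') y).trans (H.tfix (H.smul_mk_eq.1 h2) 1).symm) e)
    rw [eq_comm, QuotientGroup.eq]
    exact H.mem_N_of one_ne_zero (by rw [H.mul, ← e1, H.inv_act]; rfl)
  have hXY : H.L.ncard = X.ncard + Y.ncard := by
    rw [← Set.ncard_union_eq (Set.disjoint_left.2 fun ω h h' => h.2 h'.2)]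
    congr 1
    ext ω
    simp only [X, Y, Set.mem_union, Set.mem_ofPred_eq]
    tauto
  have h1 : 1 ≤ H.L.ncard := by
    obtain ⟨g, a, hg⟩ := H.mv
    have hg' : g ∉ H.N := fun h => hg (h a)
    obtain ⟨s, hs⟩ := H.exists_L hg'
    refine (Set.ncard_pos).2 ⟨(H.u s * g : Γ), fun h => hg' ?_, H.smul_mk_eq.2 hs⟩
    exact (H.N.mul_mem_cancel_left (H.u_mem s)).1 (H.mk_eq_one.1 h)
  refine arith (r := r) ⟨r / 2, by omega⟩ h1 ?_ ?_ hX hY hXY
  · have i1 := relIndex_mul_index (inf_le_left : H.N ⊓ centralizer {H.t} ≤ _)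
    have i2 := relIndex_mul_index (inf_le_right : H.N ⊓ centralizer {H.t} ≤ _)
    rw [inf_relIndex_left, H.relIndex_N, H.card_quot, Nat.card_eq_fintype_card, hr] at i1
    rw [inf_relIndex_right, H.relIndex_cent] at i2
    rw [i1, ← i2]
    exact Dvd.intro _ rfl
  · rw [← hr, hF, ← H.relIndex_cent]
    refine Nat.Coprime.pow_right _ ((Nat.Prime.coprime_iff_not_dvd hp.out).2 fun h => ?_).symm
    obtain ⟨k, hk⟩ := exists_prime_orderOf_dvd_card' p (h.trans (relIndex_dvd_card _ _))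
    exact H.not_order hp.out.one_lt (mem_centralizer_singleton_iff.1 k.2) (by simpa using hk)

theorem exists_w [Fintype F] [Finite Γ] [hp : Fact p.Prime] {n : ℕ} (hF : Fintype.card F = p ^ n)
    (h4 : Fintype.card F % 4 = 3) :
    ∃ w, w * H.t = H.t * w ∧ w ∉ H.N ∧ ∀ g, g ∉ H.N → g⁻¹ * H.t * g ∈ H.N → w⁻¹ * g ∈ H.N := by
  obtain ⟨ω, hω⟩ := Set.ncard_eq_one.1 (H.card_L hF h4)
  obtain ⟨g, rfl⟩ := QuotientGroup.mk_surjective ω
  have h1 : (g : Γ ⧸ H.N) ∈ H.L := hω ▸ rfl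
  obtain ⟨s, hs⟩ := H.conj_t (H.smul_mk_eq.1 h1.2)
  refine ⟨g * H.u s, hs, fun h => h1.1 (H.mk_eq_one.2 ?_), fun k k1 k2 => ?_⟩
  · exact (H.N.mul_mem_cancel_right (H.u_mem s)).1 h
  · have h2 : (k : Γ ⧸ H.N) ∈ H.L := ⟨mt H.mk_eq_one.1 k1, H.smul_mk_eq.2 k2⟩
    rw [hω] at h2
    rw [mul_inv_rev, mul_assoc]
    exact H.N.mul_mem (H.N.inv_mem (H.u_mem s)) (QuotientGroup.eq.1 h2.symm)

end Hyp

end Cfsg.Lib.Hay
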