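import Cfsg.Agent.Lib.Hay.Ident

/-!
The acting group is `GL₂(q)/±1 ≅ PGL₂(q) × C_{(q-1)/2}`.
-/

set_option autoImplicit false

namespace Cfsg.Lib.Hay

open Subgroup Matrix

theorem rho_one_iff {F : Type*} [Field F] (h2 : (2 : F) ≠ 0) (m : Matrix (Fin 2) (Fin 2) F) :
    (∀ v, rho m v = v) ↔ m = 1 ∨ m = -1 := by
  constructor
  · intro h
    have h1 := h (1, 0, 0)
    have h3 := h (0, 1, 0)
    simp only [rho, mul_one, mul_zero, add_zero, zero_add, Prod.mk.injEq] at h1 h3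
    have a0 : m 0 0 ≠ 0 := fun h0 => by simp [h0] at h1
    have b0 : m 0 1 = 0 := (mul_eq_zero.1 h3.1).resolve_left (mul_ne_zero h2 a0)
    have c0 : m 1 0 = 0 := (mul_eq_zero.1 h1.2.1).resolve_left a0
    have d0 : m 1 1 = m 0 0 := by
      apply mul_left_cancel₀ a0
      linear_combination h3.2.1 - h1.1 - m 0 1 * c0
    rcases sq_eq_one_iff_of_ne_zero_aux h1.1 with h | h
    · left; ext i j; fin_cases i <;> fin_cases j <;> simp [*]
    · right; ext i j; fin_cases i <;> fin_cases j <;> simp [*]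
  · rintro (rfl | rfl) ⟨a, b, c⟩ <;> simp [rho]
where sq_eq_one_iff_of_ne_zero_aux {a : F} (h : a ^ 2 = 1) : a = 1 ∨ a = -1 :=
  mul_self_eq_one_iff.1 (by rw [← sq, h])

theorem exists_phi {F : Type*} [Field F] [Fintype F] (h4 : Fintype.card F % 4 = 3) :
    ∃ Φ : GL (Fin 2) F →* ProjGenLinGroup (Fin 2) F × Multiplicative (ZMod ((Fintype.card F - 1) / 2)),
      Function.Surjective Φ ∧ ∀ g, Φ g = 1 ↔ (g : Matrix (Fin 2) (Fin 2) F) = 1 ∨
        (g : Matrix (Fin 2) (Fin 2) F) = -1 := by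
  classical
  let S := (powMonoidHom 2 : Fˣ →* Fˣ).range
  obtain ⟨r, hr⟩ : ∃ r, Fintype.card F = 2 * r + 1 := ⟨Fintype.card F / 2, by omega⟩
  have hr' : (Fintype.card F - 1) / 2 = r := by omega
  rw [hr']
  haveI : NeZero r := ⟨by omega⟩
  have hS : Nat.card S = Nat.card (Multiplicative (ZMod r)) := by
    rw [IsCyclic.card_powMonoidHom_range, Nat.card_eq_fintype_card, Fintype.card_units, hr]
    simp
  let ι : S ≃* Multiplicative (ZMod r) := mulEquivOfCyclicCardEq hS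
  let δ : GL (Fin 2) F →* S := (powMonoidHom 2 : Fˣ →* Fˣ).rangeRestrict.comp GeneralLinearGroup.det
  have hδ : ∀ g, ((δ g : Fˣ) : F) = (g : Matrix (Fin 2) (Fin 2) F).det ^ 2 := fun g => by
    simp [δ]
  have hsc : ∀ u : Fˣ, ((δ (GeneralLinearGroup.scalar (Fin 2) u) : Fˣ) : F) = (u ^ 2) ^ 2 := by
    intro u; rw [hδ]; simp [GeneralLinearGroup.scalar]
  refine ⟨ProjGenLinGroup.mk.prod (ι.toMonoidHom.comp δ), ?_, fun g => ?_⟩
  · rintro ⟨a, b⟩
    obtain ⟨g, rfl⟩ := ProjGenLinGroup.mk_surjective a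
    obtain ⟨⟨_, m, rfl⟩, hm⟩ : ∃ s : S, s = (δ g)⁻¹ * ι.symm b := ⟨_, rfl⟩
    obtain ⟨l, hl⟩ := sq_or_neg_sq h4 (m : F)
    have l0 : l ≠ 0 := by
      rintro rfl
      rcases hl with hl | hl <;> simp at hl
    refine ⟨g * GeneralLinearGroup.scalar (Fin 2) (Units.mk0 l l0), Prod.ext ?_ ?_⟩
    · simp
    · change ι (δ _) = b
      rw [map_mul, ← ι.eq_symm_apply, ← eq_inv_mul_iff_mul_eq, ← hm]
      apply Subtype.ext; apply Units.ext
      rw [hsc]
      rcases hl with hl | hl <;> simp [hl]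
  · rw [Prod.ext_iff]
    change ProjGenLinGroup.mk g = 1 ∧ ι (δ g) = 1 ↔ _
    rw [ProjGenLinGroup.mk_eq_one, GeneralLinearGroup.center_eq_range_scalar, map_eq_one_iff _ ι.injective]
    constructor
    · rintro ⟨⟨u, rfl⟩, h⟩
      have h1 := hsc u
      rw [h] at h1
      have h2 : (u : F) ^ 2 = 1 := by
        rcases rho_one_iff.sq_eq_one_iff_of_ne_zero_aux h1.symm with h | h
        · exact h
        · exact absurd (by simpa using h) (sq_ne_neg_sq h4 one_ne_zero (a := (u : F)))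
      rcases rho_one_iff.sq_eq_one_iff_of_ne_zero_aux h2 with h | h
      · left; simp [GeneralLinearGroup.scalar, h]
      · right; simp [GeneralLinearGroup.scalar, h, ← diagonal_neg]
    · rintro (h | h)
      · rw [show g = 1 from Units.ext h]
        exact ⟨one_mem _, map_one _⟩
      · refine ⟨⟨-1, Units.ext ?_⟩, Subtype.ext (Units.ext ?_)⟩
        · rw [h]; simp [GeneralLinearGroup.scalar, ← diagonal_neg]
        · rw [hδ, h]; simp [det_neg]

namespace Hyp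

variable {F Γ : Type*} [Field F] [Group Γ] {p : ℕ} {H : Hyp F Γ p}

theorem rel_mul {g g' : Γ} {m m' : Matrix (Fin 2) (Fin 2) F} (h : ∀ v, H.act g v = rho m v)
    (h' : ∀ v, H.act g' v = rho m' v) (v : F × F × F) : H.act (g * g') v = rho (m * m') v := by
  rw [H.mul, h, h', rho_mul]

theorem rel_u (s : F) (v : F × F × F) : H.act (H.u s) v = rho !![1, s; 0, 1] v := by
  obtain ⟨a, b, c⟩ := v
  simp [H.act_u, rho]

theorem rel_τ (l : Fˣ) (v : F × F × F) : H.act (H.τ l) v = rho !![1, 0; 0, (l : F)] v := by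
  obtain ⟨a, b, c⟩ := v
  simp [H.act_τ, rho]

theorem exists_psi [Fintype F] [Finite Γ] [hp : Fact p.Prime] {n : ℕ} (H0 : Hyp F Γ p)
    (hF : Fintype.card F = p ^ n) (h4 : Fintype.card F % 4 = 3) :
    ∃ (H : Hyp F Γ p) (ψ : GL (Fin 2) F →* Γ),
      (∀ l : Fˣ, (l : F) ^ 2 ≠ 1 → ∀ g v, H.act g v = H0.act g v) ∧ Function.Surjective ψ ∧
      ∀ m v, H.act (ψ m) v = rho m v := by
  obtain ⟨H, w, h0, hw, dec⟩ := H0.exists_swap hF h4
  obtain ⟨⟨f, g, k, k0, e⟩, hd⟩ := hw.lin h4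
  have hD : ∀ μ : F, μ ≠ 0 → ∃ d, ∀ v, H.act d v = rho !![μ, 0; 0, 1] v := fun μ hμ => by
    obtain ⟨d, h⟩ := hd μ hμ
    exact ⟨d, fun ⟨a, b, c⟩ => by simp [h, rho]⟩
  obtain ⟨x, y, x0, y0, hW⟩ : ∃ x y : F, x ≠ 0 ∧ y ≠ 0 ∧ ∀ v, H.act w v = rho !![0, x; y, 0] v := by
    have e1 : H.act (w * H.u 1 * w) (1, 0, 0) = (f * k, g * k, k * k) := by
      simp [H.mul, e, H.act_u]
    obtain ⟨s, d, dN, h⟩ := dec (w * H.u 1 * w) fun h => by
      have := h 1
      rw [e1] at this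
      exact mul_ne_zero k0 k0 (Prod.mk.inj this).2
    obtain ⟨μ, μ0, hμ⟩ := is_sq h4 hd dN
    rw [h, H.mul, H.mul, hμ, e, H.act_u] at e1
    simp only [mul_zero, zero_add, add_zero, Prod.mk.injEq] at e1
    have hk : k = μ ^ 2 := (mul_left_cancel₀ k0 e1.2.2).symm
    have hg : g = s * μ ^ 2 := mul_right_cancel₀ k0 (by linear_combination -e1.2.1)
    have hf : f = s ^ 2 * μ ^ 2 := mul_right_cancel₀ k0 (by linear_combination -e1.1)
    have s0 : s ≠ 0 := by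
      rintro rfl
      have := H.inj w (v := (0, 1, 0)) (w := (0, 0, 0)) (by simp [e, hg])
      simp at this
    refine ⟨s * μ, μ, mul_ne_zero s0 μ0, μ0, fun ⟨a, b, c⟩ => ?_⟩
    simp only [e, rho, hk, hg, hf, of_apply, cons_val', cons_val_zero, cons_val_one, cons_val_fin_one,
      Prod.mk.injEq]
    refine ⟨?_, ?_, ?_⟩ <;> ring
  have hN : ∀ d ∈ H.N, ∃ m : Matrix (Fin 2) (Fin 2) F, m.det ≠ 0 ∧ ∀ v, H.act d v = rho m v := by
    intro d dN
    obtain ⟨μ, μ0, hμ⟩ := is_sq h4 hd dN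
    obtain ⟨d', h'⟩ := hD μ μ0
    obtain ⟨s, l, h⟩ := H.stab (d'⁻¹ * d) 1 one_ne_zero (by
      rw [H.mul, hμ, ← H.inv_act d' (1, 0, 0), h']; simp [rho])
    rw [inv_mul_eq_iff_eq_mul] at h
    refine ⟨_, ?_, h ▸ rel_mul h' (rel_mul (rel_u s) (rel_τ l))⟩
    simp [det_fin_two, μ0]
  have h1 : ∀ γ, ∃ m : GL (Fin 2) F, ∀ v, H.act γ v = rho m v := by
    intro γ
    by_cases hγ : γ ∈ H.N
    · obtain ⟨m, h0, h⟩ := hN γ hγ
      exact ⟨GeneralLinearGroup.mkOfDetNeZero m h0, h⟩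
    · obtain ⟨s, d, dN, rfl⟩ := dec γ hγ
      obtain ⟨m, h0, h⟩ := hN d dN
      refine ⟨GeneralLinearGroup.mkOfDetNeZero _ ?_, rel_mul (rel_mul (rel_u s) hW) h⟩
      rw [det_mul]
      exact mul_ne_zero (by simp [det_fin_two, x0, y0]) h0
  have hB : ∀ a b d : F, a ≠ 0 → d ≠ 0 → ∃ γ, ∀ v, H.act γ v = rho !![a, b; 0, d] v := by
    intro a b d a0 d0
    obtain ⟨d', h'⟩ := hD a a0
    refine ⟨_, fun v => (rel_mul (rel_mul (rel_u (b / d)) h') (rel_τ (Units.mk0 d d0)) v).trans ?_⟩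
    congr 1
    ext i j; fin_cases i <;> fin_cases j <;> simp [d0]
  have h2 : ∀ m : GL (Fin 2) F, ∃ γ, ∀ v, H.act γ v = rho m v := by
    intro m
    have h0 : (m : Matrix (Fin 2) (Fin 2) F).det ≠ 0 := m.det_ne_zero
    generalize (m : Matrix (Fin 2) (Fin 2) F) = m at h0
    rw [det_fin_two] at h0
    by_cases hc : m 1 0 = 0
    · rw [hc, mul_zero, sub_zero] at h0
      obtain ⟨γ, h⟩ := hB (m 0 0) (m 0 1) (m 1 1) (left_ne_zero_of_mul h0) (right_ne_zero_of_mul h0)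
      refine ⟨γ, fun v => (h v).trans ?_⟩
      rw [← hc, ← eta_fin_two]
    · obtain ⟨γ, h⟩ := hB (m 1 0 / y) (m 1 1 / y) (-(m 0 0 * m 1 1 - m 0 1 * m 1 0) / (m 1 0 * x))
        (div_ne_zero hc y0) (div_ne_zero (neg_ne_zero.2 h0) (mul_ne_zero hc x0))
      refine ⟨_, fun v => (rel_mul (rel_mul (rel_u (m 0 0 / m 1 0)) hW) h v).trans ?_⟩
      congr 1
      ext i j; fin_cases i <;> fin_cases j <;> simp <;> field_simp
      ring
  choose Ψ hΨ using h2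
  let ψ : GL (Fin 2) F →* Γ := MonoidHom.mk' Ψ fun a b =>
    H.ext' fun x y z => by rw [hΨ, rel_mul (hΨ a) (hΨ b), Units.val_mul]
  refine ⟨H, ψ, h0, fun γ => ?_, hΨ⟩
  obtain ⟨m, h⟩ := h1 γ
  exact ⟨m, H.ext' fun x y z => (hΨ m _).trans (h _).symm⟩

theorem nonempty_equiv [Fintype F] [Finite Γ] [hp : Fact p.Prime] {n : ℕ} (H : Hyp F Γ p)
    (hF : Fintype.card F = p ^ n) (h4 : Fintype.card F % 4 = 3) :
    Nonempty (Γ ≃* ProjGenLinGroup (Fin 2) F × Multiplicative (ZMod ((Fintype.card F - 1) / 2))) := by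
  obtain ⟨H, ψ, -, hψ, hΨ⟩ := H.exists_psi hF h4
  obtain ⟨Φ, hΦ, hker⟩ := exists_phi h4
  have hk : ψ.ker = Φ.ker := by
    ext m
    rw [MonoidHom.mem_ker, MonoidHom.mem_ker, hker, ← rho_one_iff H.two]
    constructor
    · intro h v
      rw [← hΨ, h, H.one]
    · exact fun h => H.faith _ fun v => (hΨ m v).trans (h v)
  exact ⟨(QuotientGroup.quotientKerEquivOfSurjective ψ hψ).symm.trans
    ((QuotientGroup.quotientMulEquivOfEq hk).trans (QuotientGroup.quotientKerEquivOfSurjective Φ hΦ))⟩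

end Hyp

end Cfsg.Lib.Hay
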