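import Mathlib

/-!
Gaschütz's splitting theorem.
-/

set_option autoImplicit false

namespace Cfsg.Lib.Hay

open Subgroup

theorem gaschutz {G : Type*} [Group G] [Finite G] (K U : Subgroup G) [hK : K.Normal]
    (hc : ∀ a ∈ K, ∀ b ∈ K, a * b = b * a) (hKU : K ≤ U) (hcop : (Nat.card K).Coprime U.index)
    (A : Subgroup G) (hAK : ∀ a ∈ A, a ∈ K → a = 1) (hKA : ∀ x ∈ U, ∃ k ∈ K, ∃ a ∈ A, x = k * a) :
    ∃ H : Subgroup G, (∀ a ∈ H, a ∈ K → a = 1) ∧ ∀ g, ∃ k ∈ K, ∃ a ∈ H, g = k * a := by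
  classical
  letI : CommGroup K := { (inferInstance : Group K) with
    mul_comm := fun a b => Subtype.ext (hc a a.2 b b.2) }
  haveI := Fintype.ofFinite (G ⧸ U)
  choose! π hπ α hα e using hKA
  have uniq : ∀ x ∈ U, ∀ k ∈ K, ∀ a ∈ A, x = k * a → π x = k := by
    intro x hx k hk a ha h
    have h1 : k⁻¹ * π x = a * (α x)⁻¹ := by
      rw [inv_mul_eq_iff_eq_mul, ← mul_assoc, ← h, eq_mul_inv_iff_mul_eq]; exact (e x hx).symm
    have := hAK _ (A.mul_mem ha (A.inv_mem (hα x hx))) (h1 ▸ K.mul_mem (K.inv_mem hk) (hπ x hx))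
    rw [← h1, inv_mul_eq_one] at this
    exact this.symm
  have πmul : ∀ x ∈ U, ∀ y ∈ U, π (x * y) = π x * (x * π y * x⁻¹) := by
    intro x hx y hy
    refine uniq _ (U.mul_mem hx hy) _ (K.mul_mem (hπ x hx) (hK.conj_mem _ (hπ y hy) x)) _
      (A.mul_mem (hα x hx) (hα y hy)) ?_
    have h1 : x * π y * x⁻¹ = α x * π y * (α x)⁻¹ := by
      have := hc _ (hπ x hx) _ (hK.conj_mem _ (hπ y hy) (α x))
      calc x * π y * x⁻¹ = π x * (α x * π y * (α x)⁻¹) * (π x)⁻¹ := by
            nth_rewrite 1 [e x hx]; nth_rewrite 3 [e x hx]; group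
        _ = _ := by rw [this]; group
    rw [h1]
    nth_rewrite 1 [e x hx, e y hy]; group
  have hm : ∀ (g : G) (q : G ⧸ U), (g • q).out⁻¹ * g * q.out ∈ U := by
    intro g q
    rw [mul_assoc, ← QuotientGroup.eq, QuotientGroup.out_eq']
    conv_lhs => rw [← QuotientGroup.out_eq' q]
    rfl
  let φ : G →* MulAut K := MulAut.conjNormal
  let c : G → K := fun g => ∏ q : G ⧸ U, φ (g • q).out ⟨π ((g • q).out⁻¹ * g * q.out), hπ _ (hm g q)⟩
  have cmul : ∀ g h, c (g * h) = c g * φ g (c h) := by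
    intro g h
    have r : c g = ∏ q : G ⧸ U, φ (g • h • q).out
        ⟨π ((g • h • q).out⁻¹ * g * (h • q).out), hπ _ (hm g _)⟩ :=
      (Fintype.prod_equiv (MulAction.toPerm h) _ _ fun q => rfl).symm
    rw [r]
    simp only [c, map_prod, ← Finset.prod_mul_distrib]
    refine Finset.prod_congr rfl fun q _ => Subtype.ext ?_
    have e1 : ((g * h) • q).out⁻¹ * (g * h) * q.out =
        ((g • h • q).out⁻¹ * g * (h • q).out) * ((h • q).out⁻¹ * h * q.out) := by
      rw [mul_smul]; group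
    simp only [φ, MulAut.conjNormal_apply, coe_mul]
    rw [e1, πmul _ (hm g _) _ (hm h _), mul_smul]; group
  have cK : ∀ k : K, c k = k ^ U.index := by
    intro k
    rw [index_eq_card, Nat.card_eq_fintype_card, ← Finset.card_univ, ← Finset.prod_const]
    refine Finset.prod_congr rfl fun q _ => Subtype.ext ?_
    have hq : (k : G) • q = q := by
      conv_lhs => rw [← QuotientGroup.out_eq' q]
      conv_rhs => rw [← QuotientGroup.out_eq' q]
      refine QuotientGroup.eq.2 (hKU ?_)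
      simpa [mul_assoc] using hK.conj_mem _ (K.inv_mem k.2) q.out⁻¹
    have h1 : q.out⁻¹ * k * q.out ∈ K := by simpa using hK.conj_mem _ k.2 q.out⁻¹
    simp only [φ, MulAut.conjNormal_apply, hq]
    rw [uniq _ (hKU h1) _ h1 1 A.one_mem (mul_one _).symm]; group
  have c1 : c 1 = 1 := by simpa using cK 1
  refine ⟨⟨⟨⟨{g | c g = 1}, fun {a b} ha hb => ?_⟩, c1⟩, fun {a} ha => ?_⟩, fun a ha hk => ?_,
    fun g => ?_⟩
  · change c _ = 1
    rw [cmul, show c a = 1 from ha, show c b = 1 from hb, map_one, one_mul]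
  · have := cmul a⁻¹ a
    rwa [inv_mul_cancel, c1, show c a = 1 from ha, map_one, mul_one, eq_comm] at this
  · have h1 : (⟨a, hk⟩ : K) ^ U.index = 1 := (cK ⟨a, hk⟩).symm.trans ha
    have := Nat.eq_one_of_dvd_coprimes hcop (orderOf_dvd_natCard _) (orderOf_dvd_of_pow_eq_one h1)
    exact congrArg Subtype.val (orderOf_eq_one_iff.1 this)
  · obtain ⟨k, hk⟩ := (powCoprime hcop).surjective (c g)
    refine ⟨k, k.2, (k : G)⁻¹ * g, ?_, by group⟩
    change c _ = 1
    rw [cmul, ← coe_inv, cK, ← hk, powCoprime_apply, inv_pow, inv_mul_eq_one]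
    apply Subtype.ext
    simp only [φ, MulAut.conjNormal_apply, coe_inv]
    rw [hc _ (K.inv_mem k.2) _ (k ^ U.index).2]; group

end Cfsg.Lib.Hay
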