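import Cfsg.Agent.Lib.Hay.Count

/-!
Identification of the action with the action of `GL₂` on symmetric matrices.
-/

set_option autoImplicit false

namespace Cfsg.Lib.Hay

open Subgroup

theorem sq_or_neg_sq {F : Type*} [Field F] [Fintype F] (h4 : Fintype.card F % 4 = 3) (y : F) :
    ∃ l, y = l ^ 2 ∨ y = -l ^ 2 := by
  classical
  by_cases h : IsSquare y
  · obtain ⟨l, rfl⟩ := h
    exact ⟨l, Or.inl (sq l).symm⟩
  · have h1 : ¬ IsSquare (-1 : F) := fun h => FiniteField.isSquare_neg_one_iff.1 h h4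
    have h0 : -y ≠ 0 := by
      rw [neg_ne_zero]; rintro rfl; exact h IsSquare.zero
    have : quadraticChar F (-y) = 1 := by
      rw [← neg_one_mul, map_mul, quadraticChar_neg_one_iff_not_isSquare.2 h1,
        quadraticChar_neg_one_iff_not_isSquare.2 h]; norm_num
    obtain ⟨l, hl⟩ := (quadraticChar_one_iff_isSquare h0).1 this
    exact ⟨l, Or.inr (by rw [sq, ← hl, neg_neg])⟩

theorem sq_ne_neg_sq {F : Type*} [Field F] [Fintype F] (h4 : Fintype.card F % 4 = 3) {a b : F}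
    (hb : b ≠ 0) : a ^ 2 ≠ -b ^ 2 := fun h =>
  FiniteField.isSquare_neg_one_iff.1 ⟨a / b, by field_simp; linear_combination -h⟩ h4

/-- The action of a two by two matrix on symmetric matrices. -/
def rho {F : Type*} [Field F] (m : Matrix (Fin 2) (Fin 2) F) (v : F × F × F) : F × F × F :=
  (m 0 0 ^ 2 * v.1 + 2 * m 0 0 * m 0 1 * v.2.1 + m 0 1 ^ 2 * v.2.2,
   m 0 0 * m 1 0 * v.1 + (m 0 0 * m 1 1 + m 0 1 * m 1 0) * v.2.1 + m 0 1 * m 1 1 * v.2.2,
   m 1 0 ^ 2 * v.1 + 2 * m 1 0 * m 1 1 * v.2.1 + m 1 1 ^ 2 * v.2.2)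

theorem rho_mul {F : Type*} [Field F] (m m' : Matrix (Fin 2) (Fin 2) F) (v : F × F × F) :
    rho (m * m') v = rho m (rho m' v) := by
  simp only [rho, Matrix.mul_apply, Fin.sum_univ_two, Prod.mk.injEq]
  refine ⟨?_, ?_, ?_⟩ <;> ring

namespace Hyp

variable {F Γ : Type*} [Field F] [Group Γ] {p : ℕ} (H : Hyp F Γ p)

/-- shear in the first coordinate -/
def shear (f : F →+ F) : F × F × F →+ F × F × F where
  toFun v := (v.1 + f v.2.2, v.2)
  map_zero' := by simp
  map_add' v w := by simp only [Prod.fst_add, Prod.snd_add, map_add, Prod.mk_add_mk]; congr 1; ring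

theorem shear_apply (f : F →+ F) (v : F × F × F) : shear f v = (v.1 + f v.2.2, v.2) := rfl

theorem shear_neg (f : F →+ F) (v : F × F × F) : shear f (shear (-f) v) = v := by
  simp [shear_apply]

theorem neg_shear (f : F →+ F) (v : F × F × F) : shear (-f) (shear f v) = v := by
  simp [shear_apply]

theorem shear_e (f : F →+ F) (a : F) : shear f (a, 0, 0) = (a, 0, 0) := by
  simp [shear_apply]

/-- change of coordinates -/
def chg (f : F →+ F) (hf : ∀ (l : Fˣ) c, f (l ^ 2 * c) = f c) : Hyp F Γ p where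
  act g := (shear (-f)).comp ((H.act g).comp (shear f))
  u := H.u
  τ := H.τ
  two := H.two
  mul g h v := by simp [shear_neg, H.mul]
  one v := by simp [neg_shear, H.one]
  faith g hg := H.faith g fun v => by
    have := congrArg (shear f) (hg (shear (-f) v))
    simpa [shear_neg] using this
  act_u s a b c := by
    simp only [AddMonoidHom.comp_apply, shear_apply, H.act_u, AddMonoidHom.neg_apply]
    congr 1; ring
  act_τ l a b c := by
    simp only [AddMonoidHom.comp_apply, shear_apply, H.act_τ, AddMonoidHom.neg_apply, hf]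
    congr 1; ring
  stab g a ha h := H.stab g a ha (by
    have := congrArg (shear f) h
    simpa [shear_neg, shear_e] using this)
  ntr := by
    obtain ⟨a, ha, h⟩ := H.ntr
    refine ⟨a, ha, fun g e => h g ?_⟩
    have := congrArg (shear f) e
    simpa [shear_neg, shear_e] using this
  mv := by
    obtain ⟨g, a, h⟩ := H.mv
    exact ⟨g, a, by simpa [shear_e, shear_apply] using h⟩
  syl := H.syl

theorem chg_act (f : F →+ F) (hf : ∀ (l : Fˣ) c, f (l ^ 2 * c) = f c) (g : Γ) (y : F) :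
    (H.chg f hf).act g (y, 0, 0) = shear (-f) (H.act g (y, 0, 0)) := by
  change shear (-f) (H.act g (shear f _)) = _
  rw [shear_e]

theorem chg_N (f : F →+ F) (hf : ∀ (l : Fˣ) c, f (l ^ 2 * c) = f c) : (H.chg f hf).N = H.N := by
  ext g
  simp only [mem_N, chg_act, shear_apply]

/-- an element interchanging the first and last axes -/
structure Swap (w : Γ) : Prop where
  comm : w * H.t = H.t * w
  nN : w ∉ H.N
  sq : w * w ∈ H.N
  fst : ∀ y, (H.act w (y, 0, 0)).1 = 0

variable {H}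

theorem Swap.inv {w : Γ} (h : H.Swap w) : H.Swap w⁻¹ where
  comm := by
    calc w⁻¹ * H.t = w⁻¹ * (H.t * w) * w⁻¹ := by group
      _ = _ := by rw [← h.comm]; group
  nN := fun k => h.nN (by simpa using k)
  sq := by rw [← mul_inv_rev]; exact H.N.inv_mem h.sq
  fst y := by
    rw [show w⁻¹ = w * (w * w)⁻¹ by group, H.mul, eta (H.N.inv_mem h.sq y)]
    exact h.fst _

theorem comm_mid {d : Γ} (h : d * H.t = H.t * d) (b : F) :
    H.act d (0, b, 0) = (0, (H.act d (0, b, 0)).2.1, 0) := by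
  have := H.mul d H.t (0, b, 0)
  rw [h, H.mul, H.act_t 0 b 0, show ((0, -b, 0) : F × F × F) = -(0, b, 0) by simp, map_neg] at this
  generalize H.act d (0, b, 0) = v at this
  obtain ⟨x, y, z⟩ := v
  rw [H.act_t] at this
  simp only [Prod.neg_mk, Prod.mk.injEq] at this
  rw [H.eq_zero_of_neg this.1.symm, H.eq_zero_of_neg this.2.2.symm]

theorem split3 (a b c : F) : ((a, b, c) : F × F × F) = (a, 0, 0) + (0, b, 0) + (0, 0, c) := by simp

theorem Swap.shape [Finite F] {w : Γ} (h : H.Swap w) :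
    ∃ f g k : F →+ F, ∀ a b c, H.act w (a, b, c) = (f c, g b, k a) := by
  have h1 : ∀ a, H.act w (a, 0, 0) = (0, 0, (H.act w (a, 0, 0)).2.2) := fun a =>
    Prod.ext (h.fst a) (Prod.ext (H.tfix (by rw [mul_assoc, ← h.comm]; simpa using H.t_mem) a) rfl)
  have h3 : ∀ c, H.act w (0, 0, c) = ((H.act w (0, 0, c)).1, 0, 0) := fun c => by
    obtain ⟨y, rfl⟩ := H.surj3 h.nN c
    rw [← h1, ← H.mul]
    exact eta (h.sq y)
  refine ⟨(AddMonoidHom.fst _ _).comp ((H.act w).comp ((AddMonoidHom.inr _ _).comp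
      (AddMonoidHom.inr _ _))),
    (AddMonoidHom.fst _ _).comp ((AddMonoidHom.snd _ _).comp ((H.act w).comp
      ((AddMonoidHom.inr _ _).comp (AddMonoidHom.inl _ _)))),
    (AddMonoidHom.snd _ _).comp ((AddMonoidHom.snd _ _).comp ((H.act w).comp
      (AddMonoidHom.inl _ _))), fun a b c => ?_⟩
  rw [split3, map_add, map_add, h1, comm_mid h.comm, h3]
  simp [← Prod.mk_zero_zero]

theorem diag {d : Γ} (h : d * H.t = H.t * d) (hN : d ∈ H.N)
    (h3 : ∀ c, H.act d (0, 0, c) = (0, 0, c)) :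
    ∃ μ, ∀ a b c, H.act d (a, b, c) = (μ ^ 2 * a, μ * b, c) := by
  obtain ⟨s, l, e⟩ := H.stab (d * H.u 1 * d⁻¹) 1 one_ne_zero (by
    rw [H.mul, H.mul, eta (H.N.inv_mem hN 1), H.act_u]
    simp only [mul_zero, add_zero]
    rw [← eta (H.N.inv_mem hN 1), H.act_inv])
  have e1 : ∀ c, H.act d (c, c, c) = (s ^ 2 * (l ^ 2 * c), s * (l ^ 2 * c), l ^ 2 * c) := by
    intro c
    have := congrArg (fun k => H.act k (0, 0, c)) (mul_inv_eq_iff_eq_mul.1 e)
    simpa [H.mul, h3, H.act_u, H.act_τ] using this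
  have e2 : ∀ c, (H.act d (c, 0, 0)).1 = s ^ 2 * c ∧ (H.act d (0, c, 0)).2.1 = s * c := by
    intro c
    have := e1 c
    rw [split3, map_add, map_add, eta (hN c), comm_mid h, h3] at this
    simp only [Prod.mk_add_mk, add_zero, zero_add, Prod.mk.injEq] at this
    rw [← this.2.2] at this
    exact ⟨this.1, this.2.1⟩
  refine ⟨s, fun a b c => ?_⟩
  rw [split3, map_add, map_add, eta (hN a), comm_mid h, h3, (e2 a).1, (e2 b).2]
  simp

theorem Swap.semi [Fintype F] (h4 : Fintype.card F % 4 = 3) {w : Γ} (h : H.Swap w)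
    {f g k : F →+ F} (e : ∀ a b c, H.act w (a, b, c) = (f c, g b, k a)) :
    ∃ φ : F →+* F, (∀ b, g b = g 1 * φ b) ∧ (∀ c, f c = f 1 * φ c) ∧
      ∀ μ : F, μ ≠ 0 → ∃ d, ∀ a b c, H.act d (a, b, c) = (μ ^ 2 * a, μ * b, c) := by
  obtain ⟨f', g', k', e'⟩ := h.inv.shape
  have g1 : g 1 ≠ 0 := fun h0 => by
    have := e 0 1 0
    rw [h0, map_zero, map_zero, show ((0, 0, 0) : F × F × F) = 0 from rfl, ← (H.act w).map_zero] at this
    simpa using H.inj w this
  have key : ∀ l : Fˣ, (∀ a b c, H.act (w * H.τ l * w⁻¹) (a, b, c) =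
      ((g l / g 1) ^ 2 * a, g l / g 1 * b, c)) ∧ (∀ b, g (l * b) = g l / g 1 * g b) ∧
      ∀ c, f (l ^ 2 * c) = (g l / g 1) ^ 2 * f c := by
    intro l
    obtain ⟨μ, hμ⟩ := diag (H := H) (d := w * H.τ l * w⁻¹)
      (by rw [mul_assoc, h.inv.comm, mul_assoc, ← mul_assoc (H.τ l), H.τ_t, ← mul_assoc,
            ← mul_assoc, h.comm]; group)
      (fun y => by simp [H.mul, e, e', H.act_τ])
      (fun c => by
        rw [H.mul, H.mul, e', H.act_τ]
        simp only [map_zero, mul_zero]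
        have := H.act_inv w (0, 0, c)
        rwa [e', map_zero, map_zero] at this)
    have e1 : ∀ b c, f (l ^ 2 * c) = μ ^ 2 * f c ∧ g (l * b) = μ * g b := by
      intro b c
      have := hμ (f c) (g b) (k 0)
      rw [← e, H.mul, H.mul, H.inv_act, H.act_τ, e] at this
      simp only [Prod.mk.injEq, and_true] at this
      exact this
    have : μ = g l / g 1 := by
      have := (e1 1 0).2
      rw [mul_one] at this
      rw [this]; field_simp
    subst this
    exact ⟨hμ, fun b => (e1 b 0).2, fun c => (e1 0 c).1⟩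
  let φ : F →+* F :=
    { toFun := fun b => g b / g 1
      map_one' := div_self g1
      map_zero' := by simp
      map_add' := fun a b => by rw [map_add, add_div]
      map_mul' := fun a b => by
        by_cases ha : a = 0
        · simp [ha]
        · have := (key (Units.mk0 a ha)).2.1 b
          simp only [Units.val_mk0] at this
          rw [this]; ring }
  have hφ : ∀ b, φ b = g b / g 1 := fun _ => rfl
  have hsq : ∀ l : F, f (l ^ 2) = f 1 * φ (l ^ 2) := by
    intro l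
    by_cases ha : l = 0
    · simp [ha]
    · have := (key (Units.mk0 l ha)).2.2 1
      simp only [Units.val_mk0, mul_one] at this
      rw [this, map_pow, hφ, mul_comm]
  refine ⟨φ, fun b => by rw [hφ]; field_simp, fun c => ?_, fun μ hμ => ?_⟩
  · obtain ⟨l, rfl | rfl⟩ := sq_or_neg_sq h4 c
    · exact hsq l
    · rw [map_neg, map_neg, hsq, mul_neg]
  · obtain ⟨l, rfl⟩ := Finite.injective_iff_surjective.1 φ.injective μ
    have hl : l ≠ 0 := by rintro rfl; exact hμ (map_zero φ)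
    exact ⟨_, (key (Units.mk0 l hl)).1⟩

theorem is_sq [Fintype F] (h4 : Fintype.card F % 4 = 3)
    (hd : ∀ μ : F, μ ≠ 0 → ∃ d, ∀ a b c, H.act d (a, b, c) = (μ ^ 2 * a, μ * b, c))
    {g : Γ} (hg : g ∈ H.N) : ∃ μ : F, μ ≠ 0 ∧ H.act g (1, 0, 0) = (μ ^ 2, 0, 0) := by
  have e1 := eta (hg 1)
  have e0 := H.ne_zero (g := g) one_ne_zero
  obtain ⟨m, hm⟩ := sq_or_neg_sq h4 (H.act g (1, 0, 0)).1
  have m0 : m ≠ 0 := by
    rintro rfl
    apply e0
    rw [e1]
    rcases hm with hm | hm <;> simp [hm]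
  rcases hm with hm | hm
  · exact ⟨m, m0, hm ▸ e1⟩
  · exfalso
    obtain ⟨a, ha, hn⟩ := H.ntr
    obtain ⟨l, hl⟩ := sq_or_neg_sq h4 a
    have l0 : l ≠ 0 := by
      rintro rfl
      rcases hl with hl | hl <;> simp [hl] at ha
    rcases hl with rfl | rfl
    · obtain ⟨d, h⟩ := hd l l0
      exact hn d (by simp [h])
    · obtain ⟨d, h⟩ := hd (l / m) (div_ne_zero l0 m0)
      refine hn (d * g) ?_
      rw [H.mul, e1, hm, h]
      simp only [mul_zero, Prod.mk.injEq, and_true]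
      field_simp

theorem Swap.lin [Fintype F] (h4 : Fintype.card F % 4 = 3) {w : Γ} (h : H.Swap w) :
    (∃ f g k : F, k ≠ 0 ∧ ∀ a b c, H.act w (a, b, c) = (f * c, g * b, k * a)) ∧
      ∀ μ : F, μ ≠ 0 → ∃ d, ∀ a b c, H.act d (a, b, c) = (μ ^ 2 * a, μ * b, c) := by
  obtain ⟨f, g, k, e⟩ := h.shape
  obtain ⟨f', g', k', e'⟩ := h.inv.shape
  obtain ⟨φ, hg, hf, hd⟩ := h.semi h4 e
  obtain ⟨φ', hg', hf', -⟩ := h.inv.semi h4 e'
  have i1 : ∀ a b, f' (k a) = a ∧ g' (g b) = b := fun a b => by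
    have := H.inv_act w (a, b, 0)
    rw [e, e'] at this
    simp only [Prod.mk.injEq] at this
    exact ⟨this.1, this.2.1⟩
  have i2 : ∀ b, φ' (φ b) = b := fun b => by
    have h1 := (i1 0 1).2
    have h2 := (i1 0 b).2
    rw [hg'] at h1
    rw [hg', hg, map_mul, ← mul_assoc, h1, one_mul] at h2
    exact h2
  have hk : ∀ a, k a = k 1 * φ a := fun a => φ'.injective (by
    have h1 := (i1 1 0).1
    have h2 := (i1 a 0).1
    rw [hf'] at h1 h2
    rw [map_mul, i2]
    linear_combination φ' (k 1) * h2 - φ' (k a) * h1)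
  have k1 : k 1 ≠ 0 := fun h0 => by
    have h1 := (i1 1 0).1
    rw [h0, map_zero] at h1
    exact zero_ne_one h1
  have i3 : ∀ a, φ (φ a) = a := by
    obtain ⟨μ, hμ, h1⟩ := is_sq h4 hd h.sq
    obtain ⟨d, h2⟩ := hd μ⁻¹ (inv_ne_zero hμ)
    have h3 := H.fix (g := d * (w * w)) one_ne_zero (by
      rw [H.mul, h1, h2]; simp [hμ])
    intro a
    have h4 := h3 a
    rw [H.mul, e, e, hf] at h1
    rw [H.mul, H.mul, e, e, h2, hf, hk, map_mul, ← mul_assoc (f 1), (Prod.mk.inj h1).1] at h4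
    have h5 := (Prod.mk.inj h4).1
    field_simp at h5
    exact h5
  have i4 : ∀ a, φ a = a := by
    intro a
    by_contra hne
    obtain ⟨m, hm⟩ := sq_or_neg_sq h4 (a - φ a)
    have m0 : m ≠ 0 := by
      rintro rfl
      apply hne
      rcases hm with hm | hm <;> linear_combination -hm
    apply sq_ne_neg_sq h4 m0 (a := φ m)
    have h1 : φ (a - φ a) = -(a - φ a) := by rw [map_sub, i3, neg_sub]
    rcases hm with hm | hm
    · rwa [hm, map_pow] at h1
    · rwa [hm, map_neg, map_pow, neg_inj] at h1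
  refine ⟨⟨f 1, g 1, k 1, k1, fun a b c => ?_⟩, hd⟩
  rw [e, hf, hg, hk, i4, i4, i4]

theorem exists_swap [Fintype F] [Finite Γ] [hp : Fact p.Prime] {n : ℕ} (H : Hyp F Γ p)
    (hF : Fintype.card F = p ^ n) (h4 : Fintype.card F % 4 = 3) :
    ∃ (H' : Hyp F Γ p) (w : Γ), (∀ l : Fˣ, (l : F) ^ 2 ≠ 1 → ∀ g v, H'.act g v = H.act g v) ∧
      H'.Swap w ∧ ∀ g, g ∉ H'.N → ∃ s, ∃ d ∈ H'.N, g = H'.u s * w * d := by
  obtain ⟨w, h1, h2, h3⟩ := H.exists_w hF h4
  let E : F ≃+ F := AddEquiv.ofBijective ((AddMonoidHom.snd _ _).comp ((AddMonoidHom.snd _ _).comp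
    ((H.act w).comp (AddMonoidHom.inl _ _)))) ⟨fun _ _ h => H.inj3 h2 h, H.surj3 h2⟩
  have hE : ∀ y, E y = (H.act w (y, 0, 0)).2.2 := fun _ => rfl
  let f : F →+ F := (AddMonoidHom.fst _ _).comp ((H.act w).comp ((AddMonoidHom.inl _ _).comp
    E.symm.toAddMonoidHom))
  have hf : ∀ y, f (H.act w (y, 0, 0)).2.2 = (H.act w (y, 0, 0)).1 := fun y => by
    change (H.act w (E.symm (E y), 0)).1 = _
    rw [E.symm_apply_apply]; rfl
  have hf2 : ∀ (l : Fˣ) c, f (l ^ 2 * c) = f c := by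
    intro l c
    obtain ⟨y, rfl⟩ := H.surj3 h2 c
    have k1 := h3 (H.τ l * w) (fun h => h2 ((H.N.mul_mem_cancel_left (H.τ_mem l)).1 h)) (by
      rw [mul_assoc, ← mul_assoc H.t, ← H.τ_t, mul_assoc (H.τ l), ← h1, ← mul_assoc (H.τ l),
        inv_mul_cancel_left]
      exact H.t_mem)
    have k2 := congrArg (H.act w) (eta (k1 y))
    rw [H.mul, H.act_inv, H.mul] at k2
    have k3 := hf (H.act w⁻¹ (H.act (H.τ l) (H.act w (y, 0, 0)))).1
    rw [← k2] at k3
    rw [hf]
    generalize H.act w (y, 0, 0) = v at k3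
    obtain ⟨a, b, c⟩ := v
    rwa [H.act_τ] at k3
  refine ⟨H.chg f hf2, w, fun l hl g v => ?_, ⟨h1, by rwa [chg_N], ?_, fun y => ?_⟩, fun g hg => ?_⟩
  · have f0 : f = 0 := AddMonoidHom.ext fun c => by
      have := hf2 l (c / (l ^ 2 - 1))
      rw [← sub_eq_zero, ← map_sub, ← sub_one_mul, mul_div_cancel₀ _ (sub_ne_zero.2 hl)] at this
      exact this
    change shear (-f) (H.act g (shear f v)) = _
    simp [f0, shear_apply]
  · rw [chg_N, ← H.N.inv_mem_iff, mul_inv_rev]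
    refine h3 _ (by simpa using h2) ?_
    rw [inv_inv, h1]; simpa using H.t_mem
  · rw [chg_act, shear_apply]; simp [hf]
  · rw [chg_N] at hg ⊢
    obtain ⟨s, hs⟩ := H.exists_L hg
    refine ⟨-s, _, h3 _ (fun h => hg ((H.N.mul_mem_cancel_left (H.u_mem s)).1 h)) hs, ?_⟩
    change g = H.u (-s) * _ * _
    rw [H.u_neg]; group

end Hyp

end Cfsg.Lib.Hay
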