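import Cfsg.Agent.Lib.Hay.Sp4
import Cfsg.Agent.Lib.Hay.Gas

/-!
Hayden's description of `N(M)`.
-/

set_option autoImplicit false

namespace Cfsg.Lib.Hay

open Subgroup

theorem main0 {G F : Type*} [Group G] [Finite G] [Field F] [Fintype F] {p m : ℕ} [hp : Fact p.Prime]
    (hF : Fintype.card F = p ^ m) (C : Subgroup G) (D : Mod F C)
    (hb : ∀ z ∈ C, z ≠ 1 → (∀ c ∈ C, c * z = z * c) → centralizer {z} = C)
    (hc : ∃ (u v : G) (Pu Pv : Sylow p G), orderOf u = p ∧ orderOf v = p ∧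
      u ∈ (Pu : Subgroup G) ∧ (∀ y ∈ (Pu : Subgroup G), y * u = u * y) ∧
      v ∈ (Pv : Subgroup G) ∧ (∀ y ∈ (Pv : Subgroup G), y * v = v * y) ∧ ∀ g : G, g * u * g⁻¹ ≠ v)
    (P : Sylow p G) (hP : (P : Subgroup G) ≤ C) (hD : D.P = P.subtype hP) (M : Subgroup G)
    (hMP : M ≤ P) (hMc : ∀ a ∈ M, ∀ b ∈ M, a * b = b * a) (hMcard : Nat.card M = p ^ (3 * m))
    (hnc : ∃ Q R : Sylow p (normalizer (M : Set G)), Q ≠ R) :
    ∃ (H : Subgroup (normalizer (M : Set G))) (Y : Hyp F H p), (∀ g ∈ H, g.1 ∈ M → g = 1) ∧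
      (∀ g : normalizer (M : Set G), ∃ k : normalizer (M : Set G), k.1 ∈ M ∧ ∃ r ∈ H, g = k * r) ∧
      ∀ (h : H) v, h.1.1 * D.n v * (h.1.1)⁻¹ = D.n (Y.act h v) := by
  have hPm : ∀ y : C, (y : G) ∈ (P : Subgroup G) ↔ y ∈ D.P := fun y => by rw [hD]; rfl
  have hM : M.subgroupOf C = D.M := D.eq_M _ (fun y hy => (hPm y).1 (hMP hy))
    (fun a ha b hb => Subtype.ext (hMc _ ha _ hb)) (by
      rw [Nat.card_congr (subgroupOfEquivOfLe (hMP.trans hP)).toEquiv, hMcard,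
        Nat.card_eq_fintype_card, hF, mul_comm, pow_mul])
  have nM : ∀ v, (D.n v : G) ∈ M := fun v => show D.n v ∈ M.subgroupOf C from hM ▸ ⟨v, rfl⟩
  have Mn : ∀ g ∈ M, ∃ v, g = D.n v := fun g hg => by
    obtain ⟨v, hv⟩ := hM.le (show (⟨g, hP (hMP hg)⟩ : C) ∈ M.subgroupOf C from hg)
    exact ⟨v, (congrArg Subtype.val hv).symm⟩
  have ninj : ∀ {v w}, (D.n v : G) = D.n w → v = w := fun h => D.n_inj (Subtype.ext h)
  set N := normalizer (M : Set G) with hN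
  have memN : ∀ g : C, (∀ v, ∃ w, g * D.n v * g⁻¹ = D.n w) → (g : G) ∈ N := fun g h =>
    mem_normalizer_fintype fun x hx => by
      obtain ⟨v, rfl⟩ := Mn x hx
      obtain ⟨w, hw⟩ := h v
      rw [show (g : G) * D.n v * (g : G)⁻¹ = D.n w from congrArg Subtype.val hw]
      exact nM w
  have uN : ∀ s, (D.u s : G) ∈ N := fun s => memN _ fun v => ⟨_, D.conj_u s v.1 v.2.1 v.2.2⟩
  have τN : ∀ s, (D.τ s : G) ∈ N := fun s => memN _ fun v => ⟨_, D.conj_τ s v.1 v.2.1 v.2.2⟩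
  have PN : (P : Subgroup G) ≤ N := fun y hy => by
    obtain ⟨v, s, e⟩ := (hPm ⟨y, hP hy⟩).1 hy
    rw [show y = D.n v * D.u s from congrArg Subtype.val e]
    exact N.mul_mem (le_normalizer (nM v)) (uN s)
  choose ac hac using fun (g : N) (v : F × F × F) =>
    Mn _ ((mem_normalizer_iff.1 g.2 _).1 (nM v))
  have ac_eq : ∀ (g : N) v w, (g : G) * D.n v * (g : G)⁻¹ = D.n w → ac g v = w := fun g v w h =>
    ninj ((hac g v).symm.trans h)
  have ac_add : ∀ g v w, ac g (v + w) = ac g v + ac g w := fun g v w => ac_eq _ _ _ (by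
    rw [D.n_add, D.n_add, coe_mul, coe_mul, ← hac, ← hac]; group)
  have ac_mul : ∀ g h v, ac (g * h) v = ac g (ac h v) := fun g h v => ac_eq _ _ _ (by
    rw [← hac, ← hac, coe_mul]; group)
  have ac_M : ∀ (g : N) v, (g : G) ∈ M → ac g v = v := fun g v h => ac_eq _ _ _ (by
    rw [hMc _ h _ (nM v), mul_inv_cancel_right])
  have Cz : ∀ a : F, a ≠ 0 → centralizer {(D.n (a, 0, 0) : G)} = C := fun a ha =>
    hb _ (D.n _).2 (fun h => ha (congrArg Prod.fst (ninj (h.trans (by rw [D.n_zero]; rfl)))))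
      fun c hc => congrArg Subtype.val (D.zc ⟨c, hc⟩ a)
  have ac_C : ∀ (g : N) a, a ≠ 0 → ac g (a, 0, 0) = (a, 0, 0) → (g : G) ∈ C := fun g a ha h => by
    rw [← Cz a ha, mem_centralizer_singleton_iff, ← mul_inv_eq_iff_eq_mul, hac, h]
  have ac_ker : ∀ g : N, (∀ v, ac g v = v) → (g : G) ∈ M := fun g h => by
    obtain ⟨v, hv⟩ := D.cent ⟨g, ac_C g 1 one_ne_zero (h _)⟩ fun v => Subtype.ext (by
      change (g : G) * D.n v = D.n v * g
      rw [← mul_inv_eq_iff_eq_mul, hac, h])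
    exact (congrArg Subtype.val hv).symm ▸ nM v
  have ac_norm : ∀ g : N, (g : G) ∈ C → ∃ v s l, (g : G) = D.n v * D.u s * D.τ l := fun g h => by
    obtain ⟨v, s, l, e⟩ := D.norm ⟨g, h⟩ fun v => ⟨_, Subtype.ext (hac g v)⟩
    exact ⟨v, s, l, congrArg Subtype.val e⟩
  obtain ⟨H, H1, H2⟩ := gaschutz (M.subgroupOf N) (P.subtype PN)
    (fun a ha b hb => Subtype.ext (hMc _ ha _ hb)) (fun a ha => hMP ha) (by
      rw [Nat.card_congr (subgroupOfEquivOfLe le_normalizer).toEquiv, hMcard]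
      exact Nat.Coprime.pow_left _ (hp.out.coprime_iff_not_dvd.2 (P.subtype PN).not_dvd_index))
    ((D.U.map C.subtype).subgroupOf N) (by
      rintro ⟨_, h⟩ ⟨_, ⟨s, rfl⟩, rfl⟩ h'
      have : D.u s ∈ M.subgroupOf C := h'
      rw [hM] at this
      apply Subtype.ext
      change (D.u s : G) = 1
      rw [D.u_mem_M this, D.u_zero]; rfl) (by
      rintro ⟨y, h⟩ hy
      obtain ⟨v, s, e⟩ := (hPm ⟨y, hP hy⟩).1 hy
      exact ⟨⟨_, le_normalizer (nM v)⟩, nM v, ⟨_, uN s⟩, ⟨_, ⟨s, rfl⟩, rfl⟩,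
        Subtype.ext (congrArg (Subtype.val : C → G) e)⟩)
  choose k hk r hr er using H2
  have ac_r : ∀ g v, ac (r g) v = ac g v := fun g v => by
    conv_rhs => rw [er g, ac_mul, ac_M _ _ (hk g)]
  have ac_one : ∀ v, ac 1 v = v := fun v => ac_M _ _ M.one_mem
  have faith : ∀ g : H, (∀ v, ac g v = v) → g = 1 := fun g h =>
    Subtype.ext (H1 _ g.2 (ac_ker _ h))
  have ext' : ∀ g g' : H, (∀ v, ac g v = ac g' v) → g = g' := fun g g' h => by
    have := faith (g'⁻¹ * g) fun v => by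
      rw [coe_mul, ac_mul, h, ← ac_mul, coe_inv, inv_mul_cancel, ac_one]
    exact (inv_mul_eq_one.1 this).symm
  have pc : ∀ (u : G) (Q : Sylow p G), orderOf u = p → u ∈ (Q : Subgroup G) →
      (∀ y ∈ (Q : Subgroup G), y * u = u * y) →
      ∃ g a, a ≠ 0 ∧ g * u * g⁻¹ = D.n (a, 0, 0) := by
    intro u Q h1 h2 h3
    obtain ⟨g, rfl⟩ := MulAction.exists_smul_eq G Q P
    have k1 : ∀ y ∈ D.P, y * (⟨g * u * g⁻¹, hP ⟨u, h2, rfl⟩⟩ : C) = ⟨g * u * g⁻¹, hP ⟨u, h2, rfl⟩⟩ * y := by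
      intro y hy
      obtain ⟨z, hz, e⟩ := (hPm y).2 hy
      change g * z * g⁻¹ = (y : G) at e
      apply Subtype.ext
      change (y : G) * (g * u * g⁻¹) = g * u * g⁻¹ * y
      rw [← e]
      calc g * z * g⁻¹ * (g * u * g⁻¹) = g * (z * u) * g⁻¹ := by group
        _ = _ := by rw [h3 z hz]; group
    obtain ⟨v, hv⟩ := D.cent _ fun v => (k1 _ (D.n_mem_P v)).symm
    have k2 := D.fix_u one_ne_zero (v := v) (hv ▸ k1 _ (D.u_mem_P 1))
    obtain ⟨a, b, c⟩ := v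
    obtain ⟨rfl, rfl⟩ := Prod.mk.inj k2
    refine ⟨g, a, ?_, congrArg Subtype.val hv⟩
    rintro rfl
    rw [show ((0, 0, 0) : F × F × F) = 0 from rfl, D.n_zero] at hv
    have : u = 1 := by simpa using hv
    rw [this, orderOf_one] at h1
    exact hp.out.one_lt.ne h1
  let Y : Hyp F H p :=
    { act := fun h => AddMonoidHom.mk' (ac h) (ac_add h)
      u := fun s => ⟨r ⟨_, uN s⟩, hr _⟩
      τ := fun s => ⟨r ⟨_, τN s⟩, hr _⟩
      two := D.two
      mul := fun g h v => ac_mul g h v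
      one := ac_one
      faith := faith
      act_u := fun s a b c => (ac_r _ _).trans
        (ac_eq _ _ _ (congrArg Subtype.val (D.conj_u s a b c)))
      act_τ := fun s a b c => (ac_r _ _).trans
        (ac_eq _ _ _ (congrArg Subtype.val (D.conj_τ s a b c)))
      stab := fun g a ha h => by
        obtain ⟨v, s, l, e⟩ := ac_norm g (ac_C g a ha h)
        refine ⟨s, l, ext' _ _ fun w => ?_⟩
        have : (g : N) = ⟨_, le_normalizer (nM v)⟩ * (⟨_, uN s⟩ * ⟨_, τN l⟩) :=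
          Subtype.ext (e.trans (mul_assoc _ _ _))
        rw [this, ac_mul, ac_M _ _ (nM v), coe_mul, ac_mul, ac_mul, ac_r, ac_r]
      ntr := by
        by_contra! hn
        obtain ⟨u, v, Pu, Pv, u1, v1, u2, u3, v2, v3, huv⟩ := hc
        obtain ⟨g, a, a0, e⟩ := pc u Pu u1 u2 u3
        obtain ⟨g', b, b0, e'⟩ := pc v Pv v1 v2 v3
        obtain ⟨x, hx⟩ := hn a a0
        obtain ⟨y, hy⟩ := hn b b0
        have x1 := hac x (1, 0, 0)
        have y1 := hac y (1, 0, 0)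
        rw [show ac x (1, 0, 0) = _ from hx, ← e] at x1
        rw [show ac y (1, 0, 0) = _ from hy, ← e'] at y1
        apply huv (g'⁻¹ * y * ((x : N) : G)⁻¹ * g)
        calc _ = g'⁻¹ * y * ((x : N) : G)⁻¹ * (g * u * g⁻¹) * x * ((y : N) : G)⁻¹ * g' := by group
          _ = g'⁻¹ * (y * D.n (1, 0, 0) * ((y : N) : G)⁻¹) * g' := by rw [← x1]; group
          _ = v := by rw [y1]; group
      mv := by
        by_contra! hn
        obtain ⟨Q, R, hQR⟩ := hnc
        haveI : ((P.subtype PN : Sylow p N) : Subgroup N).Normal := ⟨fun y hy g => by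
          have g1 : ac g⁻¹ (1, 0, 0) = ((ac g⁻¹ (1, 0, 0)).1, 0, 0) := by
            refine Prod.ext rfl ?_
            rw [← ac_r]
            exact hn ⟨r g⁻¹, hr _⟩ 1
          have g2 : (g * y * g⁻¹ : N).1 ∈ C := ac_C _ 1 one_ne_zero (by
            rw [ac_mul, ac_mul, g1, ac_eq y _ _ (mul_inv_eq_iff_eq_mul.2
              (congrArg Subtype.val (D.zc ⟨y, hP hy⟩ _))), ← g1, ← ac_mul, mul_inv_cancel, ac_one])
          obtain ⟨v, s, l, e⟩ := ac_norm _ g2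
          obtain ⟨i, hi⟩ := (P.subtype PN).isPGroup' ⟨y, hy⟩
          have hi' : y ^ p ^ i = 1 := congrArg Subtype.val hi
          have := (hPm _).2 (D.pel hF (v := v) (s := s) (l := l) (k := i) (Subtype.ext (by
            change ((D.n v : G) * D.u s * D.τ l) ^ p ^ i = 1
            rw [← e, ← coe_pow, conj_pow, hi']; simp)))
          change (g * y * g⁻¹ : N).1 ∈ (P : Subgroup G)
          rwa [e]⟩
        haveI := Sylow.unique_of_normal (P.subtype PN) this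
        exact hQR (Subsingleton.elim _ _)
      syl := fun h ho => by
        have h1 : IsPGroup p (zpowers (h : N)) := IsPGroup.of_card (n := 1) (by
          rw [Nat.card_zpowers, orderOf_coe, ho, pow_one])
        obtain ⟨Q, hQ⟩ := h1.exists_le_sylow
        obtain ⟨g, e⟩ := MulAction.exists_smul_eq N (P.subtype PN) Q
        subst e
        obtain ⟨y, hy, e⟩ := hQ (mem_zpowers (h : N))
        change g * y * g⁻¹ = (h : N) at e
        obtain ⟨v, s, e'⟩ := (hPm ⟨y, hP hy⟩).1 hy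
        have : y = ⟨_, le_normalizer (nM v)⟩ * ⟨_, uN s⟩ :=
          Subtype.ext (congrArg (Subtype.val : C → G) e')
        refine ⟨⟨r g, hr g⟩, s, ?_⟩
        rw [eq_mul_inv_iff_mul_eq]
        refine ext' _ _ fun w => ?_
        rw [coe_mul, coe_mul, ac_mul, ac_mul, ac_r, ac_r, ac_r, ← e, ← ac_mul, inv_mul_cancel_right,
          ac_mul, this, ac_mul, ac_M ⟨_, le_normalizer (nM v)⟩ _ (nM v)] }
  exact ⟨H, Y, H1, fun g => ⟨_, hk g, _, hr g, er g⟩, fun h v => hac h v⟩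

theorem main {G F : Type*} [Group G] [Finite G] [Field F] [Fintype F] {p m : ℕ} [hp : Fact p.Prime]
    (hF : Fintype.card F = p ^ m) (h4 : Fintype.card F % 4 = 3) (C : Subgroup G) (D₀ : Mod F C)
    (hb : ∀ z ∈ C, z ≠ 1 → (∀ c ∈ C, c * z = z * c) → centralizer {z} = C)
    (hc : ∃ (u v : G) (Pu Pv : Sylow p G), orderOf u = p ∧ orderOf v = p ∧
      u ∈ (Pu : Subgroup G) ∧ (∀ y ∈ (Pu : Subgroup G), y * u = u * y) ∧
      v ∈ (Pv : Subgroup G) ∧ (∀ y ∈ (Pv : Subgroup G), y * v = v * y) ∧ ∀ g : G, g * u * g⁻¹ ≠ v)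
    (P : Sylow p G) (hP : (P : Subgroup G) ≤ C) (M : Subgroup G) (hMP : M ≤ P)
    (hMc : ∀ a ∈ M, ∀ b ∈ M, a * b = b * a) (hMcard : Nat.card M = p ^ (3 * m))
    (hnc : ∃ Q R : Sylow p (normalizer (M : Set G)), Q ≠ R) :
    ∃ J : Subgroup G, J ≤ normalizer (M : Set G) ∧ M ⊔ J = normalizer (M : Set G) ∧ M ⊓ J = ⊥ ∧
      Nonempty (J ≃* (Matrix.ProjGenLinGroup (Fin 2) F ×
        Multiplicative (ZMod ((Fintype.card F - 1) / 2)))) := by
  obtain ⟨D, hD⟩ := D₀.exists_sylow hF (P.subtype hP)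
  obtain ⟨H, Y, H1, H2, -⟩ := main0 hF C D hb hc P hP hD M hMP hMc hMcard hnc
  choose k hk r hr er using H2
  let N := normalizer (M : Set G)
  obtain ⟨φ⟩ := Y.nonempty_equiv hF h4
  refine ⟨H.map N.subtype, map_subtype_le _, le_antisymm (sup_le le_normalizer (map_subtype_le _))
    fun g hg => ?_, ?_, ⟨(H.equivMapOfInjective _ N.subtype_injective).symm.trans φ⟩⟩
  · rw [show g = k ⟨g, hg⟩ * r ⟨g, hg⟩ from congrArg Subtype.val (er ⟨g, hg⟩)]
    exact mul_mem_sup (hk _) ⟨_, hr _, rfl⟩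
  · rw [eq_bot_iff]
    rintro _ ⟨h1, g, h2, rfl⟩
    rw [H1 g h2 h1]
    exact one_mem _

end Cfsg.Lib.Hay
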