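import Cfsg.Agent.Lib.Hay.GL

/-!
Abstract model of the centralizer of a long root element of `PSp₄(q)`.
-/

set_option autoImplicit false

namespace Cfsg.Lib.Hay

open Subgroup

structure Mod (F C : Type*) [Field F] [Group C] where
  n : F × F × F → C
  u : F → C
  τ : Fˣ → C
  two : (2 : F) ≠ 0
  n_add : ∀ v w, n (v + w) = n v * n w
  n_inj : Function.Injective n
  u_add : ∀ s s', u (s + s') = u s * u s'
  τ_one : τ 1 = 1
  conj_u : ∀ s a b c, u s * n (a, b, c) * (u s)⁻¹ = n (a + 2 * s * b + s ^ 2 * c, b + s * c, c)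
  conj_τ : ∀ l a b c, τ l * n (a, b, c) * (τ l)⁻¹ = n (a, l * b, l ^ 2 * c)
  cent : ∀ y, (∀ v, y * n v = n v * y) → ∃ v, y = n v
  norm : ∀ y, (∀ v, ∃ w, y * n v * y⁻¹ = n w) → ∃ v s l, y = n v * u s * τ l
  zc : ∀ y a, y * n (a, 0, 0) = n (a, 0, 0) * y

namespace Mod

variable {F C C' : Type*} [Field F] [Group C] [Group C'] (D : Mod F C)

/-- transport along an isomorphism -/
def map (e : C ≃* C') : Mod F C' where
  n v := e (D.n v)
  u s := e (D.u s)
  τ l := e (D.τ l)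
  two := D.two
  n_add v w := by rw [D.n_add, map_mul]
  n_inj := e.injective.comp D.n_inj
  u_add s s' := by rw [D.u_add, map_mul]
  τ_one := by rw [D.τ_one, map_one]
  conj_u s a b c := by rw [← D.conj_u, map_mul, map_mul, map_inv]
  conj_τ l a b c := by rw [← D.conj_τ, map_mul, map_mul, map_inv]
  cent y h := by
    obtain ⟨y, rfl⟩ := e.surjective y
    obtain ⟨v, rfl⟩ := D.cent y fun v => e.injective (by rw [map_mul, map_mul, h])
    exact ⟨v, rfl⟩
  norm y h := by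
    obtain ⟨y, rfl⟩ := e.surjective y
    obtain ⟨v, s, l, rfl⟩ := D.norm y fun v => (h v).imp fun w hw =>
      e.injective (by rw [map_mul, map_mul, map_inv, hw])
    exact ⟨v, s, l, by rw [map_mul, map_mul]⟩
  zc y a := by
    obtain ⟨y, rfl⟩ := e.surjective y
    rw [← map_mul, ← map_mul, D.zc]

theorem n_zero : D.n 0 = 1 := by
  have := D.n_add 0 0
  rwa [add_zero, left_eq_mul] at this

theorem n_neg (v : F × F × F) : D.n (-v) = (D.n v)⁻¹ := by
  rw [eq_inv_iff_mul_eq_one, ← D.n_add, neg_add_cancel, D.n_zero]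

theorem n_comm (v w : F × F × F) : D.n v * D.n w = D.n w * D.n v := by
  rw [← D.n_add, add_comm, D.n_add]

theorem n_conj (v w : F × F × F) : D.n v * D.n w * (D.n v)⁻¹ = D.n w := by
  rw [D.n_comm, mul_inv_cancel_right]

theorem u_zero : D.u 0 = 1 := by
  have := D.u_add 0 0
  rwa [add_zero, left_eq_mul] at this

theorem u_neg (s : F) : D.u (-s) = (D.u s)⁻¹ := by
  rw [eq_inv_iff_mul_eq_one, ← D.u_add, neg_add_cancel, D.u_zero]

/-- the abelian normal subgroup -/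
def M : Subgroup C where
  carrier := Set.range D.n
  one_mem' := ⟨0, D.n_zero⟩
  mul_mem' := by rintro _ _ ⟨v, rfl⟩ ⟨w, rfl⟩; exact ⟨_, D.n_add v w⟩
  inv_mem' := by rintro _ ⟨v, rfl⟩; exact ⟨_, D.n_neg v⟩

/-- the complement -/
def U : Subgroup C where
  carrier := Set.range D.u
  one_mem' := ⟨0, D.u_zero⟩
  mul_mem' := by rintro _ _ ⟨v, rfl⟩ ⟨w, rfl⟩; exact ⟨_, D.u_add v w⟩
  inv_mem' := by rintro _ ⟨v, rfl⟩; exact ⟨_, D.u_neg v⟩

theorem conj_u' (s : F) (v : F × F × F) : ∃ w, D.u s * D.n v = D.n w * D.u s :=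
  ⟨_, mul_inv_eq_iff_eq_mul.1 (D.conj_u s v.1 v.2.1 v.2.2)⟩

/-- the Sylow subgroup -/
def P : Subgroup C where
  carrier := {y | ∃ v s, y = D.n v * D.u s}
  one_mem' := ⟨0, 0, by rw [D.n_zero, D.u_zero, one_mul]⟩
  mul_mem' := by
    rintro _ _ ⟨v, s, rfl⟩ ⟨w, s', rfl⟩
    obtain ⟨x, h⟩ := D.conj_u' s w
    exact ⟨v + x, s + s', by rw [D.n_add, D.u_add, mul_assoc, ← mul_assoc (D.u s), h]; group⟩
  inv_mem' := by
    rintro _ ⟨v, s, rfl⟩
    obtain ⟨x, h⟩ := D.conj_u' (-s) (-v)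
    exact ⟨x, -s, by rw [← h, D.u_neg, D.n_neg, mul_inv_rev]⟩

theorem n_mem_P (v : F × F × F) : D.n v ∈ D.P := ⟨v, 0, by rw [D.u_zero, mul_one]⟩

theorem u_mem_P (s : F) : D.u s ∈ D.P := ⟨0, s, by rw [D.n_zero, one_mul]⟩

theorem fix_u {s : F} (hs : s ≠ 0) {v : F × F × F} (h : D.u s * D.n v = D.n v * D.u s) :
    v.2 = 0 := by
  obtain ⟨a, b, c⟩ := v
  have h := D.n_inj ((D.conj_u s a b c).symm.trans (mul_inv_eq_iff_eq_mul.2 h))
  simp only [Prod.mk.injEq, and_true] at h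
  obtain ⟨h1, h2⟩ := h
  have hc : c = 0 := by
    have : s * c = 0 := by linear_combination h2
    exact (mul_eq_zero.1 this).resolve_left hs
  have hb : b = 0 := by
    have : 2 * s * b = 0 := by rw [hc] at h1; linear_combination h1
    exact (mul_eq_zero.1 this).resolve_left (mul_ne_zero D.two hs)
  simp [hb, hc]

theorem u_mem_M {s : F} (h : D.u s ∈ D.M) : s = 0 := by
  by_contra hs
  obtain ⟨v, h⟩ := h
  have := D.fix_u hs (v := (0, 0, 1)) (by rw [← h, D.n_comm])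
  simp at this

theorem nu_inj {v v' : F × F × F} {s s' : F} (h : D.n v * D.u s = D.n v' * D.u s') :
    v = v' ∧ s = s' := by
  have : s = s' := by
    refine sub_eq_zero.1 (D.u_mem_M ⟨-v + v', ?_⟩)
    rw [sub_eq_add_neg, D.u_add, D.n_add, D.n_neg, D.u_neg, inv_mul_eq_iff_eq_mul, ← mul_assoc, h,
      mul_inv_cancel_right]
  subst this
  exact ⟨D.n_inj (mul_right_cancel h), rfl⟩

theorem card_M : Nat.card D.M = Nat.card F ^ 3 := by
  refine (Nat.card_congr (Equiv.ofInjective _ D.n_inj)).symm.trans ?_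
  rw [Nat.card_prod, Nat.card_prod]; ring

theorem card_P : Nat.card D.P = Nat.card F ^ 4 := by
  rw [← Nat.card_eq_of_bijective (fun x : (F × F × F) × F => (⟨_, x.1, x.2, rfl⟩ : D.P))
    ⟨fun x y h => Prod.ext (D.nu_inj (congrArg Subtype.val h)).1 (D.nu_inj (congrArg Subtype.val h)).2,
      by rintro ⟨_, v, s, rfl⟩; exact ⟨(v, s), rfl⟩⟩, Nat.card_prod, Nat.card_prod, Nat.card_prod]
  ring

theorem eq_M [Finite F] (A : Subgroup C) (hA : A ≤ D.P) (hc : ∀ a ∈ A, ∀ b ∈ A, a * b = b * a)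
    (hcard : Nat.card A = Nat.card F ^ 3) : A = D.M := by
  have h1 : 1 < Nat.card F := Finite.one_lt_card
  haveI : Finite D.M := Nat.finite_of_card_ne_zero (by rw [D.card_M]; positivity)
  refine eq_of_le_of_card_ge (fun y hy => ?_) (by rw [D.card_M, hcard])
  by_contra hn
  obtain ⟨v0, s0, rfl⟩ := hA hy
  have hs0 : s0 ≠ 0 := by
    rintro rfl
    exact hn ⟨v0, by rw [D.u_zero, mul_one]⟩
  choose v s e using fun a : A => hA a.2
  have := Nat.card_le_card_of_injective (fun a : A => ((v a).1, s a)) fun a b h => by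
    obtain ⟨h2, h3⟩ := Prod.mk.inj h
    have e1 : (a : C) * (b : C)⁻¹ = D.n (v a - v b) := by
      rw [e a, e b, h3, sub_eq_add_neg, D.n_add, D.n_neg]; group
    have e2 := hc _ hy _ (A.mul_mem a.2 (A.inv_mem b.2))
    rw [e1, mul_assoc, ← mul_assoc (D.n (v a - v b)), D.n_comm _ v0, mul_assoc, mul_right_inj] at e2
    have e3 : v a = v b := Prod.ext h2 (sub_eq_zero.1 (D.fix_u hs0 e2))
    exact Subtype.ext (by rw [e a, e b, e3, h3])
  rw [hcard, Nat.card_prod, ← sq] at this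
  exact absurd this (not_le.2 (Nat.pow_lt_pow_right h1 (by norm_num)))

theorem pel [Fintype F] {p : ℕ} [hp : Fact p.Prime] {m : ℕ} (hF : Fintype.card F = p ^ m)
    {v : F × F × F} {s : F} {l : Fˣ} {k : ℕ} (h : (D.n v * D.u s * D.τ l) ^ p ^ k = 1) :
    D.n v * D.u s * D.τ l ∈ D.P := by
  classical
  set y := D.n v * D.u s * D.τ l with hy
  have h1 : ∀ a b, ∃ a', y * D.n (a, b, 0) * y⁻¹ = D.n (a', l * b, 0) := fun a b => ⟨_, by
    calc y * D.n (a, b, 0) * y⁻¹ =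
        D.n v * (D.u s * (D.τ l * D.n (a, b, 0) * (D.τ l)⁻¹) * (D.u s)⁻¹) * (D.n v)⁻¹ := by
          rw [hy]; group
      _ = _ := by rw [D.conj_τ, D.conj_u, D.n_conj]; simp only [mul_zero, add_zero]; rfl⟩
  have h2 : ∀ i : ℕ, ∃ a', y ^ i * D.n (0, 1, 0) * (y ^ i)⁻¹ = D.n (a', l ^ i, 0) := by
    intro i
    induction i with
    | zero => exact ⟨0, by simp⟩
    | succ i ih =>
      obtain ⟨a, ha⟩ := ih
      obtain ⟨a', ha'⟩ := h1 a (l ^ i)
      exact ⟨a', by rw [pow_succ' (l : F), ← ha', ← ha, pow_succ']; group⟩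
  obtain ⟨a, ha⟩ := h2 (p ^ k)
  rw [h, one_mul, inv_one, mul_one] at ha
  have h3 : l ^ p ^ k = 1 := Units.ext (by simpa using (congrArg (fun x => x.2.1) (D.n_inj ha)).symm)
  have h4 : l = 1 := by
    have c1 := orderOf_dvd_of_pow_eq_one h3
    have c2 := orderOf_dvd_card (x := l)
    rw [Fintype.card_units, hF] at c2
    have m0 : m ≠ 0 := by
      rintro rfl
      exact absurd (Fintype.one_lt_card (α := F)) (by simp [hF])
    refine orderOf_eq_one_iff.1 (Nat.eq_one_of_dvd_coprimes ?_ c1 c2)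
    refine Nat.Coprime.pow_left _ ?_
    have := (Nat.coprime_self_sub_right (Nat.one_le_pow m p hp.out.pos)).2 (Nat.coprime_one_right _)
    exact Nat.Coprime.coprime_dvd_left (dvd_pow_self p m0) this
  exact ⟨v, s, by rw [hy, h4, D.τ_one, mul_one]⟩

include D in
theorem exists_sylow [Finite C] [Fintype F] {p : ℕ} [hp : Fact p.Prime] {m : ℕ}
    (hF : Fintype.card F = p ^ m) (Q : Sylow p C) : ∃ D' : Mod F C, D'.P = Q := by
  have hP : IsPGroup p D.P := IsPGroup.of_card (n := m * 4) (by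
    rw [D.card_P, Nat.card_eq_fintype_card, hF, pow_mul])
  obtain ⟨R, hR⟩ := hP.exists_le_sylow
  have hRP : D.P = R := by
    by_contra hne
    haveI := R.isPGroup'.isNilpotent
    have := Group.normalizerCondition_of_isNilpotent (G := R) (D.P.subgroupOf R)
      (lt_top_iff_ne_top.2 fun h => hne (le_antisymm hR (subgroupOf_eq_top.1 h)))
    obtain ⟨y, y1, y2⟩ := SetLike.exists_of_lt this
    have y3 : ∀ x ∈ D.P, (y : C) * x * (y : C)⁻¹ ∈ D.P := fun x hx =>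
      (mem_normalizer_iff.1 y1 ⟨x, hR hx⟩).1 hx
    have y4 := D.eq_M (D.M.map (MulAut.conj (y : C)).toMonoidHom)
      (by rintro _ ⟨_, ⟨v, rfl⟩, rfl⟩; exact y3 _ (D.n_mem_P v))
      (by rintro _ ⟨_, ⟨v, rfl⟩, rfl⟩ _ ⟨_, ⟨w, rfl⟩, rfl⟩; rw [← map_mul, ← map_mul, D.n_comm])
      (by rw [card_map_of_injective (MulAut.conj (y : C)).injective, D.card_M])
    obtain ⟨v, s, l, e⟩ := D.norm y fun v => by
      obtain ⟨w, hw⟩ := y4.le ⟨_, ⟨v, rfl⟩, rfl⟩
      exact ⟨w, hw.symm⟩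
    obtain ⟨k, hk⟩ := R.isPGroup' y
    refine y2 (mem_subgroupOf.2 ?_)
    rw [e]
    exact D.pel hF (k := k) (by rw [← e]; exact congrArg Subtype.val hk)
  obtain ⟨g, rfl⟩ := MulAction.exists_smul_eq C R Q
  refine ⟨D.map (MulAut.conj g), ?_⟩
  rw [Sylow.coe_subgroup_smul, ← hRP]
  ext y
  constructor
  · rintro ⟨v, s, rfl⟩
    exact ⟨_, ⟨v, s, rfl⟩, map_mul (MulAut.conj g) _ _⟩
  · rintro ⟨_, ⟨v, s, rfl⟩, rfl⟩
    exact ⟨v, s, map_mul (MulAut.conj g) _ _⟩

end Mod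

end Cfsg.Lib.Hay
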