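import Cfsg.Agent.Lib.Hay.Mod
import Cfsg.Prelude.Def_Classical

/-!
The Siegel parabolic of `PSp₄(q)` and the centralizer of a long root element.
-/

set_option autoImplicit false

namespace Cfsg.Lib.Hay

open Subgroup Matrix

variable {F : Type*} [Field F]

/-- symmetric matrix of a triple -/
def sym (v : F × F × F) : Matrix (Fin 2) (Fin 2) F := !![v.1, v.2.1; v.2.1, v.2.2]

theorem sym_t (v : F × F × F) : (sym v)ᵀ = sym v := by
  ext i j; fin_cases i <;> fin_cases j <;> rfl

theorem sym_add (v w : F × F × F) : sym (v + w) = sym v + sym w := by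
  ext i j; fin_cases i <;> fin_cases j <;> rfl

theorem exists_sym {X : Matrix (Fin 2) (Fin 2) F} (h : Xᵀ = X) : ∃ v, X = sym v := by
  refine ⟨(X 0 0, X 0 1, X 1 1), ?_⟩
  have := congrFun (congrFun h 0) 1
  ext i j; fin_cases i <;> fin_cases j <;> simp_all [sym]

/-- unipotent radical -/
def nS (v : F × F × F) : symplecticGroup (Fin 2) F :=
  ⟨fromBlocks 1 (sym v) 0 1, SymplecticGroup.fromBlocks_mem_iff.2 (by simp [sym_t])⟩

/-- Levi factor -/
def lS (g g' : Matrix (Fin 2) (Fin 2) F) (h : gᵀ * g' = 1) : symplecticGroup (Fin 2) F :=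
  ⟨fromBlocks g 0 0 g', SymplecticGroup.fromBlocks_mem_iff.2 (by simp [h])⟩

/-- root subgroup of the Levi factor -/
def uS (s : F) : symplecticGroup (Fin 2) F :=
  lS !![1, s; 0, 1] !![1, 0; -s, 1] (by ext i j; fin_cases i <;> fin_cases j <;> simp [mul_apply])

/-- torus -/
def tS (l : Fˣ) : symplecticGroup (Fin 2) F :=
  lS !![1, 0; 0, (l : F)] !![1, 0; 0, (l : F)⁻¹]
    (by ext i j; fin_cases i <;> fin_cases j <;> simp [mul_apply])

theorem nS_add (v w : F × F × F) : nS (v + w) = nS v * nS w :=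
  Subtype.ext (by simp [nS, fromBlocks_multiply, sym_add, add_comm])

theorem nS_zero : nS (0 : F × F × F) = 1 := by
  have := nS_add (0 : F × F × F) 0
  rwa [add_zero, left_eq_mul] at this

theorem nS_pow (v : F × F × F) (k : ℕ) : nS v ^ k = nS (k • v) := by
  induction k with
  | zero => simp [nS_zero]
  | succ k ih => rw [pow_succ, ih, succ_nsmul, nS_add]

theorem nS_inj : Function.Injective (nS : F × F × F → _) := fun v w h => by
  have := (fromBlocks_inj.1 (congrArg Subtype.val h)).2.1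
  exact Prod.ext (congrFun (congrFun this 0) 0)
    (Prod.ext (congrFun (congrFun this 0) 1) (congrFun (congrFun this 1) 1))

theorem uS_add (s s' : F) : uS (s + s') = uS s * uS s' :=
  Subtype.ext (by simp [uS, lS, fromBlocks_multiply, add_comm])

theorem tS_one : tS (1 : Fˣ) = 1 :=
  Subtype.ext (by simp [tS, lS, ← one_fin_two])

theorem uS_conj (s a b c : F) :
    uS s * nS (a, b, c) = nS (a + 2 * s * b + s ^ 2 * c, b + s * c, c) * uS s :=
  Subtype.ext (by
    simp only [uS, lS, nS, sym, Submonoid.coe_mul, fromBlocks_multiply, fromBlocks_inj]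
    refine ⟨by simp, ?_, by simp, by simp⟩
    ext i j; fin_cases i <;> fin_cases j <;> simp <;> ring)

theorem tS_conj (l : Fˣ) (a b c : F) :
    tS l * nS (a, b, c) = nS (a, l * b, l ^ 2 * c) * tS l :=
  Subtype.ext (by
    simp only [tS, lS, nS, sym, Submonoid.coe_mul, fromBlocks_multiply, fromBlocks_inj]
    refine ⟨by simp, ?_, by simp, by simp⟩
    ext i j; fin_cases i <;> fin_cases j <;> simp <;> field_simp)

theorem comm_iff {A B C D : Matrix (Fin 2) (Fin 2) F} (h : fromBlocks A B C D ∈ symplecticGroup (Fin 2) F)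
    (v w : F × F × F) : (⟨_, h⟩ : symplecticGroup (Fin 2) F) * nS v = nS w * ⟨_, h⟩ ↔
      sym w * C = 0 ∧ A * sym v = sym w * D ∧ C * sym v = 0 := by
  rw [Subtype.ext_iff]
  simp [nS, fromBlocks_multiply, fromBlocks_inj, add_comm]

theorem exists_blocks (y : symplecticGroup (Fin 2) F) :
    ∃ A B C D : Matrix (Fin 2) (Fin 2) F, ∃ h, y = ⟨fromBlocks A B C D, h⟩ :=
  ⟨_, _, _, _, by rw [fromBlocks_toBlocks]; exact y.2, Subtype.ext (fromBlocks_toBlocks _).symm⟩

theorem decomp {g B g' : Matrix (Fin 2) (Fin 2) F} (h : fromBlocks g B 0 g' ∈ symplecticGroup (Fin 2) F) :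
    ∃ v h', (⟨_, h⟩ : symplecticGroup (Fin 2) F) = nS v * lS g g' h' := by
  obtain ⟨-, h1, h2⟩ := SymplecticGroup.fromBlocks_mem_iff.1 h
  rw [transpose_zero, Matrix.zero_mul, sub_zero] at h2
  have h3 : g' * gᵀ = 1 := mul_eq_one_comm.1 h2
  have h4 : g * g'ᵀ = 1 := by simpa using congrArg transpose h3
  obtain ⟨v, hv⟩ := exists_sym (X := B * gᵀ) (by
    rw [transpose_mul, transpose_transpose, ← Matrix.mul_one (g * Bᵀ), ← h3, Matrix.mul_assoc,
      ← Matrix.mul_assoc Bᵀ, h1, ← Matrix.mul_assoc, ← Matrix.mul_assoc, h4, Matrix.one_mul])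
  refine ⟨v, h2, Subtype.ext ?_⟩
  simp [nS, lS, fromBlocks_multiply, ← hv, Matrix.mul_assoc, h2]

/-- minus the identity -/
def mS : symplecticGroup (Fin 2) F := ⟨-1, SymplecticGroup.neg_mem (one_mem _)⟩

theorem mS_center : mS ∈ center (symplecticGroup (Fin 2) F) :=
  mem_center_iff.2 fun g => Subtype.ext (by simp [mS])

theorem centS (y : symplecticGroup (Fin 2) F) (h : ∀ v, y * nS v = nS v * y) :
    ∃ v, y = nS v ∨ y = nS v * mS := by
  obtain ⟨A, B, C, D, hy, rfl⟩ := exists_blocks y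
  simp only [comm_iff] at h
  have s1 : sym ((1, 0, 1) : F × F × F) = 1 := by simp [sym, ← one_fin_two]
  have h1 := h (1, 0, 1)
  rw [s1, Matrix.one_mul, Matrix.one_mul, Matrix.mul_one] at h1
  obtain ⟨rfl, rfl, -⟩ := h1
  obtain ⟨v, h', e⟩ := decomp hy
  have h2 := (h (1, 0, 0)).2.1
  have h3 := (h (0, 1, 0)).2.1
  have a1 : A 0 1 = 0 := by simpa [sym, mul_apply] using (congrFun (congrFun h2 0) 1).symm
  have a2 : A 1 0 = 0 := by simpa [sym, mul_apply] using congrFun (congrFun h2 1) 0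
  have a3 : A 1 1 = A 0 0 := by simpa [sym, mul_apply] using (congrFun (congrFun h3 0) 1).symm
  have a4 : A 0 0 * A 0 0 = 1 := by simpa [mul_apply, a2] using congrFun (congrFun h' 0) 0
  refine ⟨v, ?_⟩
  rw [e]
  rcases mul_self_eq_one_iff.1 a4 with a | a
  · left
    have : A = 1 := by ext i j; fin_cases i <;> fin_cases j <;> simp [*]
    subst this
    rw [mul_eq_left]
    exact Subtype.ext fromBlocks_one
  · right
    have : A = -1 := by ext i j; fin_cases i <;> fin_cases j <;> simp [*]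
    subst this
    congr 1
    exact Subtype.ext (by simp [lS, mS, ← fromBlocks_one, fromBlocks_neg])

theorem center_sq {z : symplecticGroup (Fin 2) F} (hz : z ∈ center (symplecticGroup (Fin 2) F)) :
    z ^ 2 = 1 := by
  obtain ⟨v, h⟩ := centS z fun v => (mem_center_iff.1 hz _).symm
  have h1 : nS v ∈ center (symplecticGroup (Fin 2) F) := by
    rcases h with rfl | rfl
    · exact hz
    · exact (Subgroup.mul_mem_cancel_right _ mS_center).1 hz
  have h2 := congrArg Subtype.val (mem_center_iff.1 h1 (SymplecticGroup.symJ _ _))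
  have h3 : sym v = 0 := by
    simpa [nS, J, fromBlocks_multiply, fromBlocks_inj, eq_comm] using h2
  have h4 : nS v = 1 := Subtype.ext (by simp [nS, h3])
  rcases h with rfl | rfl
  · rw [h4, one_pow]
  · rw [h4, one_mul]; exact Subtype.ext (by simp [mS])

theorem normS (y : symplecticGroup (Fin 2) F) {a : F} (ha : a ≠ 0)
    (h0 : y * nS (a, 0, 0) = nS (a, 0, 0) * y) (h : ∀ v, ∃ w, y * nS v = nS w * y) :
    ∃ v s l, y = nS v * uS s * tS l ∨ y = nS v * uS s * tS l * mS := by
  obtain ⟨A, B, C, D, hy, rfl⟩ := exists_blocks y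
  simp only [comm_iff] at h h0
  have s1 : sym ((1, 0, 1) : F × F × F) = 1 := by simp [sym, ← one_fin_two]
  obtain ⟨w, -, -, h1⟩ := h (1, 0, 1)
  rw [s1, Matrix.mul_one] at h1
  subst h1
  obtain ⟨v, h', e⟩ := decomp hy
  have h2 := h0.2.1
  have a1 : D 0 1 = 0 := by simpa [sym, mul_apply, ha] using (congrFun (congrFun h2 0) 1).symm
  have a2 : A 1 0 = 0 := by simpa [sym, mul_apply, ha] using congrFun (congrFun h2 1) 0
  have a3 : D 0 0 = A 0 0 := by
    simpa [sym, mul_apply, ha, mul_comm] using (congrFun (congrFun h2 0) 0).symm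
  have a4 : A 0 0 * A 0 0 = 1 := by simpa [mul_apply, a2, a3] using congrFun (congrFun h' 0) 0
  have a5 : A 0 1 * A 0 0 + A 1 1 * D 1 0 = 0 := by
    simpa [mul_apply, a3] using congrFun (congrFun h' 1) 0
  have a6 : A 1 1 * D 1 1 = 1 := by simpa [mul_apply, a1] using congrFun (congrFun h' 1) 1
  have a7 : A 1 1 ≠ 0 := left_ne_zero_of_mul_eq_one a6
  have a8 : D 1 1 = (A 1 1)⁻¹ := eq_inv_of_mul_eq_one_right a6
  have a9 : D 1 0 = -(A 0 1 * A 0 0) / A 1 1 := by field_simp; linear_combination a5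
  rw [e]
  rcases mul_self_eq_one_iff.1 a4 with a | a
  · refine ⟨v, A 0 1 / A 1 1, Units.mk0 _ a7, Or.inl ?_⟩
    rw [mul_assoc]; congr 1
    apply Subtype.ext
    simp only [uS, tS, lS, Submonoid.coe_mul, fromBlocks_multiply, fromBlocks_inj]
    refine ⟨?_, by simp, by simp, ?_⟩ <;> ext i j <;> fin_cases i <;> fin_cases j <;>
      simp [*, neg_div]
  · refine ⟨v, A 0 1 / A 1 1, Units.mk0 _ (neg_ne_zero.2 a7), Or.inr ?_⟩
    rw [mul_assoc, mul_assoc]; congr 1
    apply Subtype.ext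
    simp only [uS, tS, lS, mS, Submonoid.coe_mul, Matrix.mul_neg, Matrix.mul_one, fromBlocks_multiply,
      fromBlocks_neg, fromBlocks_inj]
    refine ⟨?_, by simp, by simp, ?_⟩ <;> ext i j <;> fin_cases i <;> fin_cases j <;>
      simp [*, neg_div]

theorem zcS (y : symplecticGroup (Fin 2) F) {a : F} (ha : a ≠ 0)
    (h0 : y * nS (a, 0, 0) = nS (a, 0, 0) * y) (b : F) : y * nS (b, 0, 0) = nS (b, 0, 0) * y := by
  obtain ⟨A, B, C, D, hy, rfl⟩ := exists_blocks y
  simp only [comm_iff] at h0 ⊢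
  have : sym ((b, 0, 0) : F × F × F) = (b / a) • sym (a, 0, 0) := by
    ext i j; fin_cases i <;> fin_cases j <;> simp [sym, ha]
  rw [this]
  simp [h0]

section

variable {p : ℕ} [CharP F p]

theorem nS_pow_char (p : ℕ) [CharP F p] (v : F × F × F) : nS v ^ p = 1 := by
  rw [nS_pow, ← Nat.cast_smul_eq_nsmul F, CharP.cast_eq_zero, zero_smul, nS_zero]

theorem lift_conj (hp : Odd p) {y : symplecticGroup (Fin 2) F} {v w : F × F × F}
    (h : (y : PSp 2 F) * (nS v : PSp 2 F) = (nS w : PSp 2 F) * (y : PSp 2 F)) :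
    y * nS v = nS w * y := by
  rw [← QuotientGroup.mk_mul, ← QuotientGroup.mk_mul, eq_comm, QuotientGroup.eq] at h
  set z := (nS w * y)⁻¹ * (y * nS v) with hz
  have h1 : y * nS v * y⁻¹ = nS w * z := by
    rw [← mul_inv_cancel_right (nS w * z) y, mul_assoc (nS w), ← mem_center_iff.1 h y, hz]; group
  have h2 : z ^ p = 1 := by
    have := congrArg (· ^ p) h1
    simp only [conj_pow, nS_pow_char, Commute.mul_pow (mem_center_iff.1 h (nS w))] at this
    simpa using this.symm
  have h3 : z = 1 := by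
    obtain ⟨k, rfl⟩ := hp
    rwa [pow_succ, pow_mul, center_sq h, one_pow, one_mul] at h2
  rw [hz, inv_mul_eq_one] at h3
  exact h3.symm

theorem mk_mS : ((mS : symplecticGroup (Fin 2) F) : PSp 2 F) = 1 :=
  (QuotientGroup.eq_one_iff _).2 mS_center

theorem centP (hp : Odd p) (y : PSp 2 F) 
    (h : ∀ v : F × F × F, y * (nS v : PSp 2 F) = (nS v : PSp 2 F) * y) :
    ∃ v : F × F × F, y = (nS v : symplecticGroup (Fin 2) F) := by
  obtain ⟨y, rfl⟩ := QuotientGroup.mk_surjective y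
  obtain ⟨v, rfl | rfl⟩ := centS y fun v => lift_conj hp (h v)
  · exact ⟨v, rfl⟩
  · exact ⟨v, by rw [QuotientGroup.mk_mul, mk_mS, mul_one]⟩

theorem zcP (hp : Odd p) {a : F} (ha : a ≠ 0) {y : PSp 2 F}
    (h : y ∈ centralizer {(nS (a, 0, 0) : PSp 2 F)}) (b : F) :
    y * (nS (b, 0, 0) : PSp 2 F) = (nS (b, 0, 0) : PSp 2 F) * y := by
  obtain ⟨y, rfl⟩ := QuotientGroup.mk_surjective y
  rw [← QuotientGroup.mk_mul, ← QuotientGroup.mk_mul,
    zcS y ha (lift_conj hp (mem_centralizer_singleton_iff.1 h))]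

theorem two_ne (hp : Odd p) : (2 : F) ≠ 0 := fun h => by
  have h1 := (CharP.cast_eq_zero_iff F p 2).1 (by exact_mod_cast h)
  rcases (Nat.dvd_prime Nat.prime_two).1 h1 with h | h
  · exact CharP.char_ne_one F p h
  · rw [h] at hp; exact absurd hp (by decide)

/-- The model on the centralizer of a long root element. -/
def modP (hp : Odd p) {a : F} (ha : a ≠ 0) :
    Mod F (centralizer ({(nS (a, 0, 0) : PSp 2 F)} : Set (PSp 2 F))) where
  n v := ⟨nS v, mem_centralizer_singleton_iff.2 (by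
    rw [← QuotientGroup.mk_mul, ← QuotientGroup.mk_mul, ← nS_add, ← nS_add, add_comm])⟩
  u s := ⟨uS s, mem_centralizer_singleton_iff.2 (by
    rw [← QuotientGroup.mk_mul, ← QuotientGroup.mk_mul, uS_conj]; simp)⟩
  τ l := ⟨tS l, mem_centralizer_singleton_iff.2 (by
    rw [← QuotientGroup.mk_mul, ← QuotientGroup.mk_mul, tS_conj]; simp)⟩
  two := two_ne hp
  n_add v w := Subtype.ext (by simp [nS_add])
  n_inj v w h := nS_inj (by
    have := lift_conj hp (y := 1) (v := v) (w := w) (by simpa using h)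
    simpa using this)
  u_add s s' := Subtype.ext (by simp [uS_add])
  τ_one := Subtype.ext (by simp [tS_one])
  conj_u s a b c := mul_inv_eq_iff_eq_mul.2 (Subtype.ext (by
    simp only [coe_mul, ← QuotientGroup.mk_mul, uS_conj]))
  conj_τ s a b c := mul_inv_eq_iff_eq_mul.2 (Subtype.ext (by
    simp only [coe_mul, ← QuotientGroup.mk_mul, tS_conj]))
  cent y h := (centP hp y fun v => congrArg Subtype.val (h v)).imp fun v hv => Subtype.ext hv
  norm := by
    rintro ⟨y, hy⟩ h
    obtain ⟨y, rfl⟩ := QuotientGroup.mk_surjective y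
    obtain ⟨v, s, l, rfl | rfl⟩ := normS y ha (lift_conj hp (mem_centralizer_singleton_iff.1 hy))
      fun v => (h v).imp fun w hw => lift_conj hp
        (congrArg Subtype.val (mul_inv_eq_iff_eq_mul.1 hw))
    · exact ⟨v, s, l, Subtype.ext (by simp)⟩
    · exact ⟨v, s, l, Subtype.ext (by simp [mk_mS])⟩
  zc y b := Subtype.ext (zcP hp ha y.2 b)

end

theorem exists_mod [Fintype F] {p m : ℕ} [hp : Fact p.Prime] (h2 : p ≠ 2)
    (hF : Fintype.card F = p ^ m) {x : PSp 2 F} (hx : x ≠ 1) (Px : Sylow p (PSp 2 F))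
    (hxc : ∀ y ∈ (Px : Subgroup (PSp 2 F)), y * x = x * y) :
    Nonempty (Mod F (centralizer ({x} : Set (PSp 2 F)))) := by
  haveI : CharP F p := charP_of_card_eq_prime_pow hF
  have ho : Odd p := hp.out.odd_of_ne_two h2
  let D := modP ho (one_ne_zero (α := F))
  have hP : IsPGroup p D.P := IsPGroup.of_card (n := m * 4) (by
    rw [D.card_P, Nat.card_eq_fintype_card, hF, pow_mul])
  obtain ⟨R, hR⟩ := (hP.map (Subgroup.subtype _)).exists_le_sylow
  obtain ⟨g, rfl⟩ := MulAction.exists_smul_eq (PSp 2 F) Px R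
  have h1 : ∀ y ∈ D.P, (y : PSp 2 F) * (g * x * g⁻¹) = g * x * g⁻¹ * y := by
    intro y hy
    obtain ⟨z, hz, e⟩ := hR ⟨y, hy, rfl⟩
    change g * z * g⁻¹ = (y : PSp 2 F) at e
    rw [← e]
    calc g * z * g⁻¹ * (g * x * g⁻¹) = g * (z * x) * g⁻¹ := by group
      _ = _ := by rw [hxc z hz]; group
  obtain ⟨v, hv⟩ := centP ho (g * x * g⁻¹) fun v => (h1 _ (D.n_mem_P v)).symm
  have h3 := D.fix_u one_ne_zero (v := v) (Subtype.ext (by
    have := h1 _ (D.u_mem_P 1)
    rwa [hv] at this))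
  obtain ⟨a, b, c⟩ := v
  obtain ⟨rfl, rfl⟩ := Prod.mk.inj h3
  have ha : a ≠ 0 := by
    rintro rfl
    apply hx
    rw [show ((0, 0, 0) : F × F × F) = 0 from rfl, nS_zero, QuotientGroup.mk_one] at hv
    simpa using hv
  have e : (centralizer ({x} : Set (PSp 2 F))).map (MulAut.conj g).toMonoidHom =
      centralizer {(nS (a, 0, 0) : PSp 2 F)} := by
    rw [← hv]
    ext y
    simp only [mem_map, mem_centralizer_singleton_iff]
    constructor
    · rintro ⟨z, hz, rfl⟩
      change g * z * g⁻¹ * _ = _ * (g * z * g⁻¹)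
      calc g * z * g⁻¹ * (g * x * g⁻¹) = g * (z * x) * g⁻¹ := by group
        _ = _ := by rw [hz]; group
    · intro h
      refine ⟨g⁻¹ * y * g, ?_, by simp [mul_assoc]⟩
      calc g⁻¹ * y * g * x = g⁻¹ * (y * (g * x * g⁻¹)) * g := by group
        _ = _ := by rw [h]; group
  exact ⟨(modP ho ha).map (((MulAut.conj g).subgroupMap _).trans (MulEquiv.subgroupCongr e)).symm⟩

end Cfsg.Lib.Hay
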